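import Cfsg.Agent.Lib.Modular.TraceForm
import Cfsg.Agent.Lib.Modular.Realize
import Cfsg.Agent.Lib.Modular.Reduction
import Cfsg.Agent.Lib.Modular.PrincipalType

/-!
# Modules over a group of order prime to `p`

* `redMat`, `traceSpan`: the reduced matrices of an irreducible character span;
* `pproj`: the action of the idempotent of a character, `pproj_mul`, `sum_pproj`;
* `splitHom`: when the idempotent acts as one, the module is a module of the matrix algebra.
-/

set_option autoImplicit false

noncomputable section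

namespace CfsgLib.Modular.FongSwan

open Cfsg CfsgLib.Blocks CfsgLib.Char
open scoped ComplexConjugate Classical

attribute [local instance] CfsgLib.Blocks.resField

variable {M : Ideal AlgInt} [M.IsMaximal] {p : ℕ} {N : Type*} [Group N] [Fintype N] {n : ℕ}

/-- The reduced matrices. -/
def redMat (A : N →* Matrix (Fin n) (Fin n) (locRing M)) : N →* Matrix (Fin n) (Fin n) (Res M) :=
  (RingHom.mapMatrix (res M)).toMonoidHom.comp A

theorem redMat_apply (A : N →* Matrix (Fin n) (Fin n) (locRing M)) (a : N) :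
    redMat A a = (A a).map (res M) := rfl

theorem trace_redMat (A : N →* Matrix (Fin n) (Fin n) (locRing M)) (a : N) :
    (redMat A a).trace = res M (A a).trace :=
  (AddMonoidHom.map_trace (res M).toAddMonoidHom (A a)).symm

/-- The order of `N` is a unit of the local integers. -/
theorem exists_inv_card (hM : IsPModular p M) (hN : ¬ p ∣ Nat.card N) :
    ∃ c : locRing M, (c : ℂ) = (Nat.card N : ℂ)⁻¹ := by
  obtain ⟨u, hu⟩ := (isUnit_iff_res_ne_zero M ((Nat.card N : ℕ) : locRing M)).mpr
    fun h => hN ((res_natCast_eq_zero_iff M hM _).mp h)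
  refine ⟨↑u⁻¹, eq_inv_of_mul_eq_one_left ?_⟩
  rw [← map_natCast (locRing M).subtype, ← hu]
  exact congrArg Subtype.val u.inv_mul

variable (A : N →* Matrix (Fin n) (Fin n) (locRing M)) {θ : IrrCharacter N}
  (hA : ∀ a, (((A a).trace : locRing M) : ℂ) = (θ : N → ℂ) a)

include hA in
theorem dim_eq : (θ : N → ℂ) 1 = (n : ℂ) := by
  rw [← hA, map_one, Matrix.trace_one, Fintype.card_fin]
  rfl

include hA in
theorem pos_dim : 0 < n := Nat.pos_of_ne_zero fun h0 => irr_one_ne_zero θ.2 (by
  rw [dim_eq A hA, h0, Nat.cast_zero])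

/-- The scalar `θ 1 / |N|` in the residue field. -/
def cbar (M : Ideal AlgInt) [M.IsMaximal] (θ : IrrCharacter N) : Res M :=
  resI M ((θ : N → ℂ) 1 / (Nat.card N : ℂ))

include hA in
/-- Orthogonality over the local integers. -/
theorem traceSpanLoc (hM : IsPModular p M) (hN : ¬ p ∣ Nat.card N)
    (XL : Matrix (Fin n) (Fin n) (locRing M)) :
    ∃ cN : locRing M, (cN : ℂ) = (Nat.card N : ℂ)⁻¹ ∧
      ∑ a, ((n : locRing M) * cN * (XL * A a⁻¹).trace) • A a = XL := by
  obtain ⟨cN, hcN⟩ := exists_inv_card hM hN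
  refine ⟨cN, hcN, ?_⟩
  let emb : locRing M →+* ℂ := (locRing M).subtype
  let ρ : Representation ℂ N (Fin n → ℂ) :=
    { toFun := fun a => Matrix.toLin' ((A a).map emb)
      map_one' := by
        rw [map_one, Matrix.map_one _ (map_zero _) (map_one _), Matrix.toLin'_one]; rfl
      map_mul' := fun a b => by rw [map_mul, Matrix.map_mul, Matrix.toLin'_mul]; rfl }
  have hchar : ρ.character = (θ : N → ℂ) := funext fun a => by
    show LinearMap.trace ℂ _ (Matrix.toLin' ((A a).map emb)) = _
    rw [Matrix.trace_toLin'_eq, ← hA]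
    exact (AddMonoidHom.map_trace emb.toAddMonoidHom (A a)).symm
  have : ρ.IsIrreducible := isIrreducible_of_isIrrCharacter ρ (hchar ▸ θ.2)
  have hrep : ∀ a, repMat ρ a = (A a).map emb := fun a => LinearMap.toMatrix'_toLin' _
  ext1 i j
  rw [Matrix.sum_apply]
  simp only [Matrix.smul_apply, smul_eq_mul]
  apply Subtype.val_injective
  show emb _ = emb _
  have h := schur_sum_trace ρ (XL.map emb) (Matrix.single j i 1)
  simp only [hrep, Matrix.trace_mul_single, MulOpposite.op_one, one_smul] at h
  have hN0 : (Nat.card N : ℂ) ≠ 0 := Nat.cast_ne_zero.mpr Nat.card_pos.ne'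
  rw [map_sum]
  simp only [map_mul, map_natCast]
  rw [show emb cN = (Nat.card N : ℂ)⁻¹ from hcN]
  simp only [← Matrix.map_mul, ← show ∀ Y : Matrix (Fin n) (Fin n) (locRing M), emb Y.trace = (Y.map emb).trace
    from fun Y => AddMonoidHom.map_trace emb.toAddMonoidHom Y, Matrix.map_apply] at h
  simp only [mul_assoc, ← Finset.mul_sum]
  rw [mul_left_comm, h, inv_mul_cancel_left₀ hN0]

include hA in
/-- Orthogonality: the reduced matrices reproduce every matrix. -/
theorem traceSpan (hM : IsPModular p M) (hN : ¬ p ∣ Nat.card N) (X : Matrix (Fin n) (Fin n) (Res M)) :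
    ∑ a, (cbar M θ * (X * redMat A a⁻¹).trace) • redMat A a = X := by
  choose X' hX' using fun i j => res_surjective M (X i j)
  let XL : Matrix (Fin n) (Fin n) (locRing M) := Matrix.of X'
  have hXL : X = XL.map (res M) := by
    ext i j
    exact (hX' i j).symm
  obtain ⟨cN, hcN, hid⟩ := traceSpanLoc A hA hM hN XL
  have hc : cbar M θ = res M ((n : locRing M) * cN) := by
    rw [← resI_coe ((n : locRing M) * cN), cbar, dim_eq A hA, div_eq_mul_inv, ← hcN]
    rfl
  conv_rhs => rw [hXL, ← hid]
  ext i j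
  rw [Matrix.sum_apply, Matrix.map_apply, Matrix.sum_apply, map_sum]
  refine Finset.sum_congr rfl fun a _ => ?_
  rw [Matrix.smul_apply, Matrix.smul_apply, smul_eq_mul, smul_eq_mul, map_mul, map_mul, redMat_apply,
    redMat_apply, hXL, ← Matrix.map_mul, hc, Matrix.map_apply]
  congr 2
  exact (AddMonoidHom.map_trace (res M).toAddMonoidHom (XL * A a⁻¹)).symm

variable {V : Type*} [AddCommGroup V] [Module (Res M) V]

theorem isPBlock_singleton_pprime (hM : IsPModular p M) (hN : ¬ p ∣ Nat.card N) (θ : IrrCharacter N) :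
    IsPBlock M ({θ} : Set (IrrCharacter N)) :=
  ⟨θ, ((blockOf_eq_singleton hM θ fun hd => hN (hd.trans (Nat.div_dvd_of_dvd
    (CfsgLib.CharBlocks.charDegree_dvd_card θ.2)))).symm)⟩

/-- The action of the idempotent of `θ`. -/
def pproj (hM : IsPModular p M) (hN : ¬ p ∣ Nat.card N) (π : Representation (Res M) N V)
    (θ : IrrCharacter N) : Module.End (Res M) V :=
  π.asAlgebraHom (red (idem (isPBlock_singleton_pprime hM hN θ)))

theorem pproj_eq_sum (hM : IsPModular p M) (hN : ¬ p ∣ Nat.card N) (π : Representation (Res M) N V)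
    (θ : IrrCharacter N) :
    pproj hM hN π θ = ∑ a, (cbar M θ * resI M ((θ : N → ℂ) a⁻¹)) • π a := by
  rw [pproj, asAlgebraHom_eq_sum]
  refine Finset.sum_congr rfl fun a _ => ?_
  congr 1
  obtain ⟨cN, hcN⟩ := exists_inv_card hM hN
  have hc := isCharacter_of_isIrr θ.2
  let z1 : locRing M := ⟨(θ : N → ℂ) 1, algInt_le_locRing M (char_isIntegral hc 1)⟩
  let za : locRing M := ⟨(θ : N → ℂ) a⁻¹, algInt_le_locRing M (char_isIntegral hc a⁻¹)⟩
  rw [coeff_red, cbar, show (θ : N → ℂ) 1 / (Nat.card N : ℂ) = ((z1 * cN : locRing M) : ℂ) by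
    rw [div_eq_mul_inv, ← hcN]; rfl, show (θ : N → ℂ) a⁻¹ = (za : ℂ) from rfl, resI_coe, resI_coe,
    ← map_mul]
  refine congrArg (res M) (Subtype.ext ?_)
  show (blockElt ({θ} : Set (IrrCharacter N))).coeff a = (θ : N → ℂ) 1 * (cN : ℂ) * (θ : N → ℂ) a⁻¹
  rw [blockElt, coeff_ofFun, blockCoeff_eq, hcN, char_inv hc]
  simp only [Set.mem_singleton_iff, Finset.sum_ite_eq', Finset.mem_univ, if_true]
  ring

theorem pproj_mul (hM : IsPModular p M) (hN : ¬ p ∣ Nat.card N) (π : Representation (Res M) N V)
    (θ θ' : IrrCharacter N) :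
    pproj hM hN π θ * pproj hM hN π θ' = if θ = θ' then pproj hM hN π θ else 0 := by
  rw [pproj, pproj, ← map_mul, ← map_mul]
  split_ifs with h
  · subst h; rw [idem_mul_self]
  · rw [idem_mul_of_ne _ _ (fun h' => h (Set.singleton_injective h')), map_zero, map_zero]

theorem pproj_comm (hM : IsPModular p M) (hN : ¬ p ∣ Nat.card N) (π : Representation (Res M) N V)
    (θ : IrrCharacter N) (a : N) : π a * pproj hM hN π θ = pproj hM hN π θ * π a := by
  rw [pproj, ← Representation.asAlgebraHom_of, ← map_mul, ← map_mul]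
  exact congrArg π.asAlgebraHom (Subsemiring.mem_center_iff.mp
    (red_mem_center (idem (isPBlock_singleton_pprime hM hN θ))) (MonoidAlgebra.of (Res M) N a))

theorem sum_pproj (hM : IsPModular p M) (hN : ¬ p ∣ Nat.card N) (π : Representation (Res M) N V) :
    ∑ θ : IrrCharacter N, pproj hM hN π θ = 1 := by
  have h : ∑ θ : IrrCharacter N, idem (isPBlock_singleton_pprime hM hN θ) = (1 : Zint M N) := by
    refine Zint_ext fun η => ?_
    rw [map_sum, map_one, Finset.sum_eq_single η (fun θ _ hne => ?_) (by simp)]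
    · rw [zomega_idem, if_pos (Set.mem_singleton _)]
    · rw [zomega_idem, if_neg fun h : η ∈ ({θ} : Set (IrrCharacter N)) => hne h.symm]
  simp only [pproj]
  rw [← map_sum, ← map_sum, h, map_one, map_one]

/-- The linear map from matrices. -/
def splitLin (π : Representation (Res M) N V) (θ : IrrCharacter N) :
    Matrix (Fin n) (Fin n) (Res M) →ₗ[Res M] Module.End (Res M) V where
  toFun X := ∑ a, (cbar M θ * (X * redMat A a⁻¹).trace) • π a
  map_add' X Y := by
    rw [← Finset.sum_add_distrib]
    exact Finset.sum_congr rfl fun a _ => by rw [Matrix.add_mul, Matrix.trace_add, mul_add, add_smul]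
  map_smul' r X := by
    rw [Finset.smul_sum]
    refine Finset.sum_congr rfl fun a _ => ?_
    rw [RingHom.id_apply, Matrix.smul_mul, Matrix.trace_smul, smul_smul, smul_eq_mul]
    ring_nf

include hA in
theorem splitLin_redMat (hM : IsPModular p M) (hN : ¬ p ∣ Nat.card N) (π : Representation (Res M) N V)
    (a : N) : splitLin A π θ (redMat A a) = π a * pproj hM hN π θ := by
  rw [pproj_eq_sum, Finset.mul_sum]
  show ∑ b, (cbar M θ * (redMat A a * redMat A b⁻¹).trace) • π b = _
  refine Fintype.sum_equiv (Equiv.mulLeft a⁻¹) _ _ fun b => ?_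
  rw [Equiv.coe_mulLeft, ← map_mul, mul_smul_comm, ← map_mul, mul_inv_cancel_left, mul_inv_rev, inv_inv,
    trace_redMat]
  congr 2
  rw [← hA (b⁻¹ * a), resI_coe, map_mul A a b⁻¹, map_mul A b⁻¹ a, Matrix.trace_mul_comm]

/-- When the idempotent of `θ` acts as one, the module is a module of the matrix algebra. -/
def splitHom (hM : IsPModular p M) (hN : ¬ p ∣ Nat.card N) (π : Representation (Res M) N V)
    (hA : ∀ a, (((A a).trace : locRing M) : ℂ) = (θ : N → ℂ) a) (h1 : pproj hM hN π θ = 1) :
    Matrix (Fin n) (Fin n) (Res M) →ₐ[Res M] Module.End (Res M) V :=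
  AlgHom.ofLinearMap (splitLin A π θ)
    (by rw [← map_one (redMat A), splitLin_redMat A hA hM hN, h1, map_one, mul_one])
    (fun X Y => by
      have hgen : ∀ a, splitLin A π θ (redMat A a) = π a := fun a => by
        rw [splitLin_redMat A hA hM hN, h1, mul_one]
      conv_lhs => rw [← traceSpan A hA hM hN X, ← traceSpan A hA hM hN Y]
      conv_rhs => rw [← traceSpan A hA hM hN X, ← traceSpan A hA hM hN Y]
      simp only [Finset.sum_mul, Finset.mul_sum, smul_mul_smul_comm, ← map_mul (redMat A), map_sum,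
        map_smul, hgen, map_mul π])

theorem splitHom_redMat (hM : IsPModular p M) (hN : ¬ p ∣ Nat.card N) (π : Representation (Res M) N V)
    (hA : ∀ a, (((A a).trace : locRing M) : ℂ) = (θ : N → ℂ) a) (h1 : pproj hM hN π θ = 1) (a : N) :
    splitHom A hM hN π hA h1 (redMat A a) = π a :=
  (splitLin_redMat A hA hM hN π a).trans (by rw [h1, mul_one])

end CfsgLib.Modular.FongSwan
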