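import Cfsg.Agent.Lib.Modular.FongSwan.SplitMatrix
import Cfsg.Agent.Lib.Modular.FongSwan.PPrimeAlg
import Cfsg.Agent.Lib.CharNormal.Clifford
import Cfsg.Agent.Lib.Fusion.PSolvableRealization
import Mathlib.GroupTheory.Perm.Cycle.Type
import Mathlib.LinearAlgebra.Matrix.GeneralLinearGroup.Defs

/-!
# The group of intertwiners of an invariant character of a normal `p'`-subgroup

`twist A G`: the pairs `(g, T)`, `T` invertible over the local integers with determinant a root of unity
of order dividing `|N|`, such that `T` intertwines `A` with its `g`-conjugate.  It is a finite central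
extension of `G` by a group of order prime to `p`.
-/

set_option autoImplicit false

noncomputable section

namespace CfsgLib.Modular.FongSwan

open Cfsg CfsgLib.Blocks CfsgLib.Char CfsgLib.CharNormal
open scoped Classical

attribute [local instance] CfsgLib.Blocks.resField

/-- An extension of a `p`-solvable group by a group of order prime to `p`. -/
theorem isPSolvable_of_ker_coprime {p : ℕ} [Fact p.Prime] {G Q : Type*} [Group G] [Finite G] [Group Q]
    {f : G →* Q} (hf : Function.Surjective f) (hk : ¬ p ∣ Nat.card f.ker) (hQ : IsPSolvable p Q) :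
    IsPSolvable p G := by
  obtain ⟨n, A, h0, hl, hm, hn, hstep⟩ := hQ
  refine ⟨n + 1, Fin.cons ⊥ fun i => (A i).comap f, rfl, ?_, ?_, ?_, ?_⟩
  · rw [← Fin.succ_last, Fin.cons_succ, hl, Subgroup.comap_top]
  · refine Fin.monotone_iff_le_succ.2 fun i => ?_
    refine Fin.cases ?_ (fun j => ?_) i
    · exact bot_le
    · rw [Fin.cons_succ, ← Fin.succ_castSucc, Fin.cons_succ]
      exact Subgroup.comap_mono (hm (Fin.castSucc_lt_succ).le)
  · intro i
    refine Fin.cases ?_ (fun j => ?_) i
    · exact (inferInstance : (⊥ : Subgroup G).Normal)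
    · rw [Fin.cons_succ]; exact (hn j).comap f
  · intro i
    refine Fin.cases ?_ (fun j => ?_) i
    · right
      change ((⊥ : Subgroup G).relIndex ((A 0).comap f)).Coprime p
      rw [Subgroup.relIndex_bot_left, h0, MonoidHom.comap_bot]
      exact ((Fact.out : p.Prime).coprime_iff_not_dvd.mpr hk).symm
    · rw [Fin.cons_succ, ← Fin.succ_castSucc, Fin.cons_succ, Subgroup.relIndex_comap,
        Subgroup.map_comap_eq_self_of_surjective hf]
      exact hstep j

variable {M : Ideal AlgInt} [M.IsMaximal] {p : ℕ}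

/-- An `n`th root of a local integer is a local integer. -/
theorem mem_locRing_of_pow (hM : IsPModular p M) {c : ℂ} {n : ℕ} (hn : 0 < n) (h : c ^ n ∈ locRing M) :
    c ∈ locRing M := by
  rcases eq_or_ne c 0 with rfl | hc0
  · exact Subring.zero_mem _
  obtain ⟨a, b, hb, hab⟩ := h
  have hal : IsAlgebraic ℤ (c ^ n) := by
    rw [← hab, div_eq_mul_inv]
    exact (IsIntegral.isAlgebraic a.2).mul (IsIntegral.isAlgebraic b.2).inv
  rcases mem_or_inv_mem hM (IsAlgebraic.of_pow hn hal) with h1 | h1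
  · exact h1
  · have h2 : c = c ^ n * c⁻¹ ^ (n - 1) := by
      obtain ⟨k, rfl⟩ : ∃ k, n = k + 1 := ⟨n - 1, by omega⟩
      rw [Nat.add_sub_cancel, pow_succ', mul_assoc, ← mul_pow, mul_inv_cancel₀ hc0, one_pow, mul_one]
    rw [h2]
    exact Subring.mul_mem _ ⟨a, b, hb, hab⟩ (Subring.pow_mem _ h1 _)

variable {G : Type*} [Group G] {N : Subgroup G} [N.Normal] [Fintype N] {n : ℕ}
  (A : N →* Matrix (Fin n) (Fin n) (locRing M))

/-- The group of intertwiners. -/
def twist : Subgroup (G × (Matrix (Fin n) (Fin n) (locRing M))ˣ) where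
  carrier := {x | (∀ m : N, (x.2 : Matrix (Fin n) (Fin n) (locRing M)) * A m =
      A (MulAut.conjNormal x.1 m) * x.2) ∧
    (x.2 : Matrix (Fin n) (Fin n) (locRing M)).det ^ Nat.card N = 1}
  one_mem' := ⟨fun m => by simp, by simp⟩
  mul_mem' := by
    rintro x y ⟨hx, hx'⟩ ⟨hy, hy'⟩
    refine ⟨fun m => ?_, by rw [Prod.snd_mul, Units.val_mul, Matrix.det_mul, mul_pow, hx', hy', one_mul]⟩
    rw [Prod.snd_mul, Units.val_mul, Prod.fst_mul, map_mul MulAut.conjNormal, mul_assoc, hy, ← mul_assoc,
      hx, mul_assoc]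
    rfl
  inv_mem' := by
    rintro x ⟨hx, hx'⟩
    refine ⟨fun m => ?_, ?_⟩
    · have h := hx (MulAut.conjNormal x.1⁻¹ m)
      rw [← MulAut.mul_apply, ← map_mul, mul_inv_cancel, map_one, MulAut.one_apply] at h
      rw [Prod.snd_inv, Prod.fst_inv, Units.inv_mul_eq_iff_eq_mul, ← mul_assoc, h, mul_assoc,
        Units.mul_inv, mul_one]
    · have h := congrArg (fun X : Matrix (Fin n) (Fin n) (locRing M) => X.det ^ Nat.card N) x.2.inv_mul
      simp only [Matrix.det_mul, mul_pow, hx', mul_one, Matrix.det_one, one_pow] at h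
      exact h

theorem mem_twist {x : G × (Matrix (Fin n) (Fin n) (locRing M))ˣ} :
    x ∈ twist A ↔ (∀ m : N, (x.2 : Matrix (Fin n) (Fin n) (locRing M)) * A m =
      A (MulAut.conjNormal x.1 m) * x.2) ∧
      (x.2 : Matrix (Fin n) (Fin n) (locRing M)).det ^ Nat.card N = 1 := Iff.rfl

/-- The projection to `G`. -/
def twistProj : twist A →* G := (MonoidHom.fst _ _).comp (twist A).subtype

theorem twistProj_apply (x : twist A) : twistProj A x = x.1.1 := rfl

/-- The lift of `N`. -/
def twistN : N →* twist A :=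
  ((MonoidHom.prod N.subtype A.toHomUnits).codRestrict (twist A) fun m => ⟨fun m' => by
    show (A m) * A m' = A (MulAut.conjNormal (m : G) m') * A m
    rw [← map_mul, ← map_mul]
    congr 1
    exact Subtype.ext (by simp), by
    show (A m).det ^ Nat.card N = 1
    rw [← Matrix.det_pow, ← map_pow, pow_card_eq_one', map_one, Matrix.det_one]⟩)

theorem twistN_fst (m : N) : (twistN A m).1.1 = (m : G) := rfl

theorem twistN_snd (m : N) :
    ((twistN A m).1.2 : Matrix (Fin n) (Fin n) (locRing M)) = A m := rfl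

theorem twistN_conj (x : twist A) (m : N) :
    x * twistN A m * x⁻¹ = twistN A (MulAut.conjNormal x.1.1 m) := by
  refine Subtype.ext (Prod.ext ?_ (Units.ext ?_))
  · show x.1.1 * (m : G) * x.1.1⁻¹ = (MulAut.conjNormal x.1.1 m : N).1
    rw [MulAut.conjNormal_apply]
  · show (x.1.2 : Matrix (Fin n) (Fin n) (locRing M)) * A m * (x.1.2⁻¹ : (Matrix (Fin n) (Fin n) (locRing M))ˣ) = A _
    rw [x.2.1 m, mul_assoc, Units.mul_inv, mul_one]

instance twistN_normal : (twistN A).range.Normal :=
  ⟨by rintro _ ⟨m, rfl⟩ x; exact ⟨_, (twistN_conj A x m).symm⟩⟩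

variable {θ : IrrCharacter N} (hA : ∀ a, (((A a).trace : locRing M) : ℂ) = (θ : N → ℂ) a)

include hA in
/-- An intertwiner of `A` with itself is a scalar. -/
theorem twist_scalar (hM : IsPModular p M) (hN : ¬ p ∣ Nat.card N)
    {T : Matrix (Fin n) (Fin n) (locRing M)} (hT : ∀ m, T * A m = A m * T) :
    ∃ c : locRing M, T = c • 1 := by
  have hall : ∀ X, T * X = X * T := fun X => by
    obtain ⟨c, -, hid⟩ := traceSpanLoc A hA hM hN X
    rw [← hid, Finset.mul_sum, Finset.sum_mul]
    exact Finset.sum_congr rfl fun a _ => by rw [Matrix.mul_smul, Matrix.smul_mul, hT]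
  let i₀ : Fin n := ⟨0, pos_dim A hA⟩
  refine ⟨T i₀ i₀, Matrix.ext fun i j => ?_⟩
  have h := congrFun (congrFun (hall (Matrix.single j i₀ (1 : locRing M))) i) i₀
  rw [Matrix.mul_single_apply_same, mul_one] at h
  rw [Matrix.smul_apply, Matrix.one_apply, smul_eq_mul, h]
  by_cases hij : i = j
  · subst hij
    rw [Matrix.single_mul_apply_same, one_mul, if_pos rfl, mul_one]
  · rw [Matrix.single_mul_apply_of_ne _ _ _ _ _ hij, if_neg hij, mul_zero]

include hA in
theorem twist_ker (hM : IsPModular p M) (hN : ¬ p ∣ Nat.card N) {x : twist A} (hx : x ∈ (twistProj A).ker) :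
    ∃ c : locRing M, c ^ (n * Nat.card N) = 1 ∧
      (x.1.2 : Matrix (Fin n) (Fin n) (locRing M)) = c • 1 := by
  have hx1 : x.1.1 = 1 := hx
  obtain ⟨hc1, hc2⟩ := x.2
  obtain ⟨c, hc⟩ := twist_scalar A hA hM hN (T := x.1.2) fun m => by
    rw [hc1 m, hx1, map_one, MulAut.one_apply]
  refine ⟨c, ?_, hc⟩
  rw [hc, Matrix.det_smul, Matrix.det_one, Fintype.card_fin, mul_one, ← pow_mul] at hc2
  exact hc2

include hA in
theorem twist_ker_central (hM : IsPModular p M) (hN : ¬ p ∣ Nat.card N) :
    (twistProj A).ker ≤ Subgroup.center (twist A) := fun x hx => by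
  obtain ⟨c, -, hc⟩ := twist_ker A hA hM hN hx
  refine Subgroup.mem_center_iff.mpr fun y => Subtype.ext (Prod.ext ?_ (Units.ext ?_))
  · show y.1.1 * x.1.1 = x.1.1 * y.1.1
    rw [show x.1.1 = 1 from hx, mul_one, one_mul]
  · show (y.1.2 : Matrix (Fin n) (Fin n) (locRing M)) * x.1.2 = x.1.2 * y.1.2
    rw [hc, Matrix.mul_smul, Matrix.smul_mul, mul_one, one_mul]

variable [Finite G]

include hA in
theorem twist_finite (hM : IsPModular p M) (hN : ¬ p ∣ Nat.card N) : Finite (twist A) := by
  have hpos : 0 < n * Nat.card N := Nat.mul_pos (pos_dim A hA) Nat.card_pos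
  have h1 : Finite (twistProj A).ker := by
    choose c hc hcx using fun x : (twistProj A).ker => twist_ker A hA hM hN x.2
    let S := {z : ℂ | z ∈ Polynomial.nthRootsFinset (n * Nat.card N) (1 : ℂ)}
    have : Finite S := (Polynomial.nthRootsFinset (n * Nat.card N) (1 : ℂ)).finite_toSet
    refine Finite.of_injective (fun x => (⟨(c x : ℂ), (Polynomial.mem_nthRootsFinset hpos 1).mpr (by
      rw [← SubmonoidClass.coe_pow, hc x]; rfl)⟩ : S)) fun x y h => ?_
    have hxy : c x = c y := Subtype.ext (congrArg (fun z : S => (z : ℂ)) h)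
    refine Subtype.ext (Subtype.ext (Prod.ext ?_ (Units.ext ?_)))
    · show x.1.1.1 = y.1.1.1
      rw [show x.1.1.1 = 1 from x.2, show y.1.1.1 = 1 from y.2]
    · show (x.1.1.2 : Matrix (Fin n) (Fin n) (locRing M)) = y.1.1.2
      rw [hcx x, hcx y, hxy]
  have h2 : Finite (twist A ⧸ (twistProj A).ker) :=
    Finite.of_injective _ (QuotientGroup.kerLift_injective (twistProj A))
  exact Finite.of_equiv _ (Subgroup.groupEquivQuotientProdSubgroup (s := (twistProj A).ker)).symm

include hA in
theorem twist_ker_coprime (hM : IsPModular p M) (hN : ¬ p ∣ Nat.card N) :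
    ¬ p ∣ Nat.card (twistProj A).ker := by
  have := twist_finite A hA hM hN
  have := Fact.mk hM.1
  intro hdvd
  obtain ⟨x, hx⟩ := exists_prime_orderOf_dvd_card' p hdvd
  obtain ⟨c, hc, hcx⟩ := twist_ker A hA hM hN x.2
  have hpow : x ^ (n * Nat.card N) = 1 := by
    refine Subtype.ext (Subtype.ext (Prod.ext ?_ (Units.ext ?_)))
    · show x.1.1.1 ^ (n * Nat.card N) = 1
      rw [show x.1.1.1 = 1 from x.2, one_pow]
    · show (x.1.1.2 : Matrix (Fin n) (Fin n) (locRing M)) ^ (n * Nat.card N) = 1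
      rw [hcx, smul_pow, one_pow, hc, one_smul]
  have h2 : p ∣ n * Nat.card N := hx ▸ orderOf_dvd_of_pow_eq_one hpow
  rcases hM.1.dvd_mul.mp h2 with h | h
  · refine hN (h.trans ?_)
    have hd : charDegree (θ : N → ℂ) = n := CfsgLib.CharBlocks.charDegree_eq (dim_eq A hA)
    exact hd ▸ CfsgLib.CharBlocks.charDegree_dvd_card θ.2
  · exact hN h

include hA in
/-- Every element has an intertwiner. -/
theorem twist_surjective (hM : IsPModular p M) (hN : ¬ p ∣ Nat.card N)
    (hinv : ∀ g : G, conjFun N g (θ : N → ℂ) = θ) : Function.Surjective (twistProj A) := by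
  intro g
  have hn := pos_dim A hA
  set cj : N ≃* N := MulAut.conjNormal g with hcj
  have htr : ∀ m, (A (cj m)).trace = (A m).trace := fun m => Subtype.val_injective <| by
    show (((A (cj m)).trace : locRing M) : ℂ) = ((A m).trace : locRing M)
    rw [hA, hA]
    exact congrFun ((conjFun_eq_comp N g _).symm.trans (hinv g)) m
  let π : Representation (Res M) N (Fin n → Res M) :=
    (Matrix.toLinAlgEquiv'.toMonoidHom.comp ((redMat A).comp cj.toMonoidHom))
  have h1 : pproj hM hN π θ = 1 := by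
    rw [pproj_eq_sum, ← map_one (Matrix.toLinAlgEquiv' (R := Res M) (n := Fin n))]
    conv_rhs => rw [← traceSpan A hA hM hN 1, map_sum]
    refine Fintype.sum_equiv cj.toEquiv _ _ fun a => ?_
    rw [map_smul, one_mul]
    congr 2
    show resI M ((θ : N → ℂ) a⁻¹) = (redMat A (cj a)⁻¹).trace
    rw [trace_redMat, ← map_inv, htr, ← hA, resI_coe]
  let φ : Matrix (Fin n) (Fin n) (Res M) →ₐ[Res M] Matrix (Fin n) (Fin n) (Res M) :=
    Matrix.toLinAlgEquiv'.symm.toAlgHom.comp (splitHom A hM hN π hA h1)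
  obtain ⟨t, ht, hφ⟩ := exists_conjugating_matrix φ hn
  have hrel : ∀ m, redMat A (cj m) * t = t * redMat A m := fun m => by
    rw [← hφ]
    congr 1
    show _ = Matrix.toLinAlgEquiv'.symm (splitHom A hM hN π hA h1 (redMat A m))
    rw [splitHom_redMat]
    exact (Matrix.toLinAlgEquiv'.symm_apply_apply _).symm
  choose X' hX' using fun i j => res_surjective M (t i j)
  let X : Matrix (Fin n) (Fin n) (locRing M) := Matrix.of X'
  have hX : X.map (res M) = t := by ext i j; exact hX' i j
  obtain ⟨cN, hcN⟩ := exists_inv_card hM hN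
  let T : Matrix (Fin n) (Fin n) (locRing M) := cN • ∑ m, A (cj m) * X * A m⁻¹
  have hT : ∀ m, T * A m = A (cj m) * T := fun m => by
    rw [Matrix.smul_mul, Matrix.mul_smul, Finset.sum_mul, Finset.mul_sum]
    congr 1
    refine (Fintype.sum_equiv (Equiv.mulLeft m) _ _ fun a => ?_).symm
    rw [Equiv.coe_mulLeft, map_mul cj, map_mul, mul_inv_rev, map_mul A a⁻¹ m⁻¹]
    simp only [Matrix.mul_assoc, ← map_mul A m⁻¹ m, inv_mul_cancel, map_one, mul_one]
  have hTred : T.map (res M) = t := by
    have hcr : res M cN * (Nat.card N : Res M) = 1 := by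
      rw [← map_natCast (res M), ← map_mul, ← map_one (res M)]
      congr 1
      apply Subtype.val_injective
      push_cast
      rw [hcN, inv_mul_cancel₀ (Nat.cast_ne_zero.mpr Nat.card_pos.ne')]
    have hmap : T.map (res M) = res M cN • ∑ m, redMat A (cj m) * t * redMat A m⁻¹ := by
      have e : T.map (res M) = RingHom.mapMatrix (res M) T := rfl
      rw [e, show T = cN • ∑ m, A (cj m) * X * A m⁻¹ from rfl]
      rw [RingHom.mapMatrix_apply, Matrix.map_smul' _ _ _ (map_mul _), ← RingHom.mapMatrix_apply, map_sum]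
      congr 1
      refine Finset.sum_congr rfl fun m _ => ?_
      rw [map_mul, map_mul, RingHom.mapMatrix_apply, RingHom.mapMatrix_apply, RingHom.mapMatrix_apply, hX]
      rfl
    rw [hmap, Finset.sum_congr rfl fun m _ => show redMat A (cj m) * t * redMat A m⁻¹ = t by
      rw [hrel, mul_assoc, ← map_mul, mul_inv_cancel, map_one, mul_one], Finset.sum_const, Finset.card_univ,
      ← Nat.card_eq_fintype_card, ← Nat.cast_smul_eq_nsmul (Res M), smul_smul, hcr, one_smul]
  have hdet : IsUnit T.det := by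
    rw [isUnit_iff_res_ne_zero M, RingHom.map_det, RingHom.mapMatrix_apply, hTred]
    exact ht.ne_zero
  obtain ⟨u, hu⟩ := hdet
  obtain ⟨c, hc⟩ := IsAlgClosed.exists_pow_nat_eq (((↑u⁻¹ : locRing M)) : ℂ) hn
  have hcmem := mem_locRing_of_pow hM hn (c := c) (hc ▸ SetLike.coe_mem _)
  let T' : Matrix (Fin n) (Fin n) (locRing M) := (⟨c, hcmem⟩ : locRing M) • T
  have hdet' : T'.det = 1 := by
    rw [Matrix.det_smul, Fintype.card_fin, ← hu,
      show (⟨c, hcmem⟩ : locRing M) ^ n = ↑u⁻¹ from Subtype.ext hc, Units.inv_mul]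
  refine ⟨⟨(g, Matrix.GeneralLinearGroup.mk'' T' (hdet' ▸ isUnit_one)), fun m => ?_, ?_⟩, rfl⟩
  · show T' * A m = A (cj m) * T'
    rw [Matrix.smul_mul, Matrix.mul_smul, hT]
  · show T'.det ^ Nat.card N = 1
    rw [hdet', one_pow]

end CfsgLib.Modular.FongSwan
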