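import Cfsg.Agent.Lib.Modular.FongSwan.Reductions
import Cfsg.Agent.Lib.Modular.FongSwan.TwistGroup
import Cfsg.Agent.Lib.Modular.Coinduced
import Cfsg.Agent.Lib.CharNormal.Kernel
import Cfsg.Agent.Lib.Transfer.PSolvable

/-!
# The invariant case

`hasLift_of_invariant`: when the character of the normal `p'`-subgroup is invariant, a lift is the
product of the intertwining character with a lift over the quotient of the twisted group.
-/

set_option autoImplicit false

noncomputable section

namespace CfsgLib.Modular.FongSwan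

open Cfsg CfsgLib.Blocks CfsgLib.Char CfsgLib.CharNormal
open scoped Classical

attribute [local instance] CfsgLib.Blocks.resField

variable {M : Ideal AlgInt} [M.IsMaximal] {p : ℕ}

/-- A Brauer character at an element acting by a scalar. -/
theorem brauerFun_of_scalar {Q : Type*} [Group Q] [Finite Q] {V : Type*} [AddCommGroup V] [Module (Res M) V]
    [FiniteDimensional (Res M) V] (ρ : Representation (Res M) Q V) {z : Q} (hz : ¬ p ∣ orderOf z)
    {l : Res M} (hl : ∀ v, ρ z v = l • v) :
    brauerFun p M ρ z = (Module.finrank (Res M) V : ℂ) * liftRoot M (pm p Q) l := by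
  rw [brauerFun_regular ρ hz]
  have hall : ∀ x ∈ (ρ z).charpoly.roots, x = l := fun x hx => by
    have h1 : Module.End.HasEigenvalue (ρ z) x :=
      (Module.End.hasEigenvalue_iff_isRoot_charpoly (f := ρ z) x).mpr (Polynomial.isRoot_of_mem_roots hx)
    obtain ⟨v, hv⟩ := h1.exists_hasEigenvector
    have h2 := hv.apply_eq_smul
    rw [hl] at h2
    exact (smul_left_injective (Res M) hv.2 h2).symm
  rw [Multiset.map_congr rfl fun x hx => congrArg (liftRoot M (pm p Q)) (hall x hx), Multiset.map_const',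
    Multiset.sum_replicate, card_roots_charpoly, nsmul_eq_mul]

theorem resI_units_inv (hM : IsPModular p M) {m : ℕ} (hm : ¬ p ∣ m) {c : locRing M} (hc : c ^ m = 1)
    {l : Res M} (hl : res M c * l = 1) {k : ℕ} (hk : ¬ p ∣ k) (hlk : l ^ k = 1) :
    (c : ℂ) * liftRoot M k l = 1 := by
  obtain ⟨h1, h2⟩ := liftRoot_spec hM hk hlk
  have hc' : (c : ℂ) ^ m = 1 := by rw [← SubmonoidClass.coe_pow, hc]; rfl
  have hk0 : 0 < k := Nat.pos_of_ne_zero fun h => hk (h ▸ dvd_zero p)
  have hmem : liftRoot M k l ∈ locRing M := root_mem_locRing hk0 h1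
  refine resI_injOn hM (m := m * k) (fun h => (hM.1.dvd_mul.mp h).elim hm hk) ?_ (one_pow _) ?_
  · rw [mul_pow, pow_mul, hc', one_pow, one_mul, mul_comm m k, pow_mul, h1, one_pow]
  · rw [resI_mul c.2 hmem, resI_coe, h2, hl]
    exact ((resI_coe (1 : locRing M)).trans (map_one _)).symm

variable {G : Type*} [Group G] [Fintype G] {N : Subgroup G} [N.Normal] [Fintype N]
  {V : Type} [AddCommGroup V] [Module (Res M) V] [FiniteDimensional (Res M) V]

theorem hasLift_of_invariant (hM : IsPModular p M) (hN : ¬ p ∣ Nat.card N) (hsolv : IsPSolvable p G)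
    {ρ : Representation (Res M) G V} (hρ : IrrAction ρ) (θ : IrrCharacter N)
    (hinv : inertia N (θ : N → ℂ) = ⊤)
    (h0 : pproj hM hN (ρ.comp N.subtype : Representation (Res M) N V) θ ≠ 0)
    (hq : ∀ (n : ℕ) (A : N →* Matrix (Fin n) (Fin n) (locRing M)), Finite (twist A) →
      IsPSolvable p (twist A ⧸ (twistN A).range) →
      ∀ Z : Subgroup (twist A ⧸ (twistN A).range), Z ≤ Subgroup.center _ → ¬ p ∣ Nat.card Z →
        Z.index = N.index → HasLifts p M (twist A ⧸ (twistN A).range)) :
    ∃ Φ, IsTraceLift p Φ ρ := by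
  have : Fact p.Prime := ⟨hM.1⟩
  obtain ⟨n, A, hA⟩ := exists_integral_rep hM θ
  have hn := pos_dim A hA
  let π : Representation (Res M) N V := ρ.comp N.subtype
  have h1 : pproj hM hN π θ = 1 := pproj_eq_one_of_invariant hM hN hρ θ hinv h0
  let s := splitHom A hM hN π hA h1
  let i₀ : Fin n := ⟨0, hn⟩
  have hfinΓ : Finite (twist A) := twist_finite A hA hM hN
  let Ker := (twistProj A).ker
  let N0 := (twistN A).range
  have hsurj := twist_surjective A hA hM hN fun g => by
    have : g ∈ inertia N (θ : N → ℂ) := hinv ▸ Subgroup.mem_top g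
    exact this
  have hkerp : ¬ p ∣ Nat.card Ker := twist_ker_coprime A hA hM hN
  -- the residual intertwiners
  let tb : twist A →* Matrix (Fin n) (Fin n) (Res M) := (RingHom.mapMatrix (res M)).toMonoidHom.comp
    ((Units.coeHom _).comp ((MonoidHom.snd G _).comp (twist A).subtype))
  have htb : ∀ x : twist A, tb x = (x.1.2 : Matrix (Fin n) (Fin n) (locRing M)).map (res M) := fun x => rfl
  have htbA : ∀ a, tb (twistN A a) = redMat A a := fun a => rfl
  have htbinv : ∀ x : twist A, tb x * tb x⁻¹ = 1 := fun x => by rw [← map_mul, mul_inv_cancel, map_one]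
  have htbinv' : ∀ x : twist A, tb x⁻¹ * tb x = 1 := fun x => by rw [← map_mul, inv_mul_cancel, map_one]
  have hconj : ∀ (x : twist A) (X), ρ x.1.1 * s X = s (tb x * X * tb x⁻¹) * ρ x.1.1 := by
    intro x X
    have hgen : ∀ a, ρ x.1.1 * s (redMat A a) = s (tb x * redMat A a * tb x⁻¹) * ρ x.1.1 := fun a => by
      rw [← htbA, ← map_mul tb, ← map_mul tb, twistN_conj, htbA, htbA]
      show ρ x.1.1 * splitHom A hM hN π hA h1 _ = splitHom A hM hN π hA h1 _ * ρ x.1.1
      rw [splitHom_redMat, splitHom_redMat]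
      show ρ x.1.1 * ρ (a : G) = ρ ((MulAut.conjNormal x.1.1 a : N) : G) * ρ x.1.1
      rw [← map_mul, ← map_mul, MulAut.conjNormal_apply, mul_assoc, inv_mul_cancel, mul_one]
    rw [← traceSpan A hA hM hN X]
    simp only [map_sum, map_smul, Finset.mul_sum, Finset.sum_mul, mul_smul_comm, smul_mul_assoc, hgen]
  let w : twist A → Module.End (Res M) V := fun x => ρ x.1.1 * s (tb x⁻¹)
  have hwcomm : ∀ (x : twist A) X, s X * w x = w x * s X := fun x X => by
    show s X * (ρ x.1.1 * s (tb x⁻¹)) = ρ x.1.1 * s (tb x⁻¹) * s X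
    have h := hconj x (tb x⁻¹ * X * tb x)
    rw [show tb x * (tb x⁻¹ * X * tb x) * tb x⁻¹ = X by
      simp only [← mul_assoc, htbinv, one_mul]
      rw [mul_assoc, htbinv, mul_one]] at h
    rw [← mul_assoc, ← h]
    simp only [mul_assoc, ← map_mul s]
    rw [htbinv, mul_one]
  have hwmul : ∀ x y, w (x * y) = w x * w y := fun x y => by
    show ρ (x.1.1 * y.1.1) * s (tb (x * y)⁻¹) = ρ x.1.1 * s (tb x⁻¹) * w y
    rw [mul_assoc, hwcomm y]
    show _ = ρ x.1.1 * (ρ y.1.1 * s (tb y⁻¹) * s (tb x⁻¹))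
    rw [mul_inv_rev, map_mul tb, map_mul s, map_mul ρ]
    simp only [mul_assoc]
  let wr : Representation (Res M) (twist A) V :=
    { toFun := w
      map_one' := by
        show ρ ((1 : twist A).1.1) * s (tb 1⁻¹) = 1
        rw [inv_one, map_one tb, map_one s, mul_one]
        exact map_one ρ
      map_mul' := hwmul }
  have hwN : ∀ a, w (twistN A a) = 1 := fun a => by
    show ρ (a : G) * s (tb (twistN A a)⁻¹) = 1
    rw [← map_inv, htbA]
    show π a * splitHom A hM hN π hA h1 _ = 1
    rw [splitHom_redMat, ← map_mul, mul_inv_cancel, map_one]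
  let wQ : Representation (Res M) (twist A ⧸ N0) V :=
    QuotientGroup.lift N0 wr fun x hx => by obtain ⟨a, rfl⟩ := hx; exact hwN a
  have hwQ : ∀ x, wQ (QuotientGroup.mk' N0 x) = w x := fun x => rfl
  -- the multiplicity space
  let E := s (Matrix.single i₀ i₀ 1)
  let W : Submodule (Res M) V := LinearMap.range E
  have hwW : ∀ q, ∀ v ∈ W, wQ q v ∈ W := fun q v hv => by
    obtain ⟨x, rfl⟩ := QuotientGroup.mk'_surjective N0 q
    obtain ⟨u, rfl⟩ := hv
    exact ⟨w x u, LinearMap.congr_fun (hwcomm x _) u⟩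
  let ρW := restrictAct wQ W hwW
  have hdim : Module.finrank (Res M) V = n * Module.finrank (Res M) W := splitMatrix_finrank s i₀
  have := hρ.1
  have hρg : ∀ x : twist A, ρ x.1.1 = w x * s (tb x) := fun x => by
    show _ = ρ x.1.1 * s (tb x⁻¹) * s (tb x)
    rw [mul_assoc, ← map_mul, htbinv', map_one, mul_one]
  have hirr : IrrAction ρW := by
    refine ⟨?_, fun U hU => or_iff_not_imp_left.mpr fun hU0 => ?_⟩
    · exact Module.nontrivial_of_finrank_pos (R := Res M) (Nat.pos_of_ne_zero fun h => by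
        have := (Module.finrank_pos (R := Res M) (M := V))
        rw [hdim, h, mul_zero] at this
        exact lt_irrefl _ this)
    · obtain ⟨u, hu, hu0⟩ := (Submodule.ne_bot_iff U).mp hU0
      let U' : Submodule (Res M) V := ⨆ X, U.map ((s X).comp W.subtype)
      have hinv' : ∀ g, ∀ v ∈ U', ρ g v ∈ U' := by
        intro g v hv
        obtain ⟨x, hx⟩ := hsurj g
        have hle : U'.map (ρ g) ≤ U' := by
          rw [Submodule.map_iSup]
          refine iSup_le fun X => ?_
          rintro _ ⟨_, ⟨u, hu, rfl⟩, rfl⟩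
          refine Submodule.mem_iSup_of_mem (tb x * X) ⟨_, hU (QuotientGroup.mk' N0 x) u hu, ?_⟩
          show s (tb x * X) (w x (u : V)) = ρ g (s X (u : V))
          rw [← hx, twistProj_apply, hρg, ← Module.End.mul_apply, ← Module.End.mul_apply, hwcomm, mul_assoc,
            ← map_mul s]
          simp only [w, mul_assoc, ← map_mul s]
        exact hle ⟨v, hv, rfl⟩
      have hu' : (u : V) ∈ U' := Submodule.mem_iSup_of_mem 1 ⟨u, hu, by
        show s 1 (u : V) = u
        rw [map_one]; rfl⟩
      have htop := hρ.eq_top hinv' hu' fun h => hu0 (Subtype.ext h)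
      rw [eq_top_iff]
      rintro v -
      have hle : U'.map E ≤ U.map W.subtype := by
        rw [Submodule.map_iSup]
        refine iSup_le fun X => ?_
        rintro _ ⟨_, ⟨u, hu, rfl⟩, rfl⟩
        refine ⟨(X i₀ i₀) • u, U.smul_mem _ hu, ?_⟩
        show ((X i₀ i₀) • (u : V)) = E (s X (u : V))
        conv_rhs => rw [← splitMatrix_fix s i₀ (v := (u : V)) u.2]
        rw [← Module.End.mul_apply, ← Module.End.mul_apply, ← map_mul, ← map_mul,
          show Matrix.single i₀ i₀ (1 : Res M) * X * Matrix.single i₀ i₀ 1 =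
            X i₀ i₀ • Matrix.single i₀ i₀ 1 by
            rw [Matrix.single_mul_mul_single, Matrix.smul_single, smul_eq_mul, one_mul, mul_one],
          map_smul, LinearMap.smul_apply, splitMatrix_fix s i₀ u.2]
      obtain ⟨u', hu', he⟩ := hle (Submodule.mem_map_of_mem (f := E) (htop ▸ Submodule.mem_top (x := (v : V))))
      have he' : u' = v := Subtype.ext (he.trans (splitMatrix_fix s i₀ v.2))
      exact he' ▸ hu'
  -- the quotient by the copy of `N`
  let Z := Ker.map (QuotientGroup.mk' N0)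
  have hQsolv : IsPSolvable p (twist A ⧸ N0) :=
    CfsgLib.Transfer.isPSolvable_quotient (isPSolvable_of_ker_coprime hsurj hkerp hsolv) N0
  have hZc : Z ≤ Subgroup.center _ := by
    rintro _ ⟨x, hx, rfl⟩
    refine Subgroup.mem_center_iff.mpr fun q => ?_
    obtain ⟨y, rfl⟩ := QuotientGroup.mk'_surjective N0 q
    rw [← map_mul, ← map_mul, Subgroup.mem_center_iff.mp (twist_ker_central A hA hM hN hx) y]
  have hZp : ¬ p ∣ Nat.card Z := fun h => hkerp (h.trans (Subgroup.card_map_dvd _ _))
  have hN0map : N0.map (twistProj A) = N := by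
    rw [MonoidHom.map_range, show (twistProj A).comp (twistN A) = N.subtype from rfl, N.range_subtype]
  have hZi : Z.index = N.index := by
    rw [Subgroup.index_map, QuotientGroup.range_mk', Subgroup.index_top, mul_one, QuotientGroup.ker_mk',
      sup_comm, ← Subgroup.comap_map_eq, hN0map, Subgroup.index_comap_of_surjective N hsurj]
  have : Fintype (twist A ⧸ N0) := Fintype.ofFinite _
  obtain ⟨ΦW, hΦW⟩ := hq n A hfinΓ hQsolv Z hZc hZp hZi W ρW hirr
  obtain ⟨hreg, -⟩ := hΦW.pRegularPart_eq_of_irrAction hM hirr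
  let dW := Module.finrank (Res M) W
  -- the product
  let Ψ : twist A → ℂ := fun x =>
    (((x.1.2 : Matrix (Fin n) (Fin n) (locRing M)).trace : locRing M) : ℂ) * ΦW (QuotientGroup.mk' N0 x)
  have hΨ : IsCharacter (twist A) Ψ := by
    refine CfsgLib.Char.isCharacter_mul ?_ (CfsgLib.Char.isCharacter_comp hΦW.isChar (QuotientGroup.mk' N0))
    let emb : locRing M →+* ℂ := (locRing M).subtype
    refine ⟨n, Matrix.toLinAlgEquiv'.toMonoidHom.comp ((RingHom.mapMatrix emb).toMonoidHom.comp
      ((Units.coeHom _).comp ((MonoidHom.snd G _).comp (twist A).subtype))), funext fun x => ?_⟩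
    show LinearMap.trace ℂ _ (Matrix.toLin' ((x.1.2 : Matrix (Fin n) (Fin n) (locRing M)).map emb)) = _
    rw [Matrix.trace_toLin'_eq]
    exact (AddMonoidHom.map_trace emb.toAddMonoidHom _).symm
  have hΨ1 : Ψ 1 = ((n * dW : ℕ) : ℂ) := by
    show (((1 : Matrix (Fin n) (Fin n) (locRing M)).trace : locRing M) : ℂ) * ΦW (QuotientGroup.mk' N0 1) = _
    rw [map_one, hΦW.degree, Matrix.trace_one, Fintype.card_fin, Nat.cast_mul]
    rfl
  have hker : ∀ x ∈ Ker, Ψ x = Ψ 1 := by
    intro x hx
    obtain ⟨c, hc, hcx⟩ := twist_ker A hA hM hN hx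
    have hxg : ρ x.1.1 = 1 := by rw [show x.1.1 = 1 from hx, map_one]
    have hct : tb x = res M c • (1 : Matrix (Fin n) (Fin n) (Res M)) := by
      rw [htb, hcx, Matrix.map_smul' _ _ _ (map_mul _), Matrix.map_one _ (map_zero _) (map_one _)]
    have hordx : ¬ p ∣ orderOf x := fun h => hkerp (h.trans (by
      exact (Subgroup.orderOf_coe (⟨x, hx⟩ : Ker)) ▸ orderOf_dvd_natCard _))
    have hz : ¬ p ∣ orderOf (QuotientGroup.mk' N0 x) := fun h => hordx (h.trans (orderOf_map_dvd _ x))
    obtain ⟨u, hu⟩ : ∃ u : Res M, res M c * u = 1 := by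
      have hne : res M c ≠ 0 := fun h => by
        have := congrArg (res M) hc
        rw [map_pow, h, map_one, zero_pow (Nat.mul_pos hn Nat.card_pos).ne'] at this
        exact zero_ne_one this
      exact ⟨(res M c)⁻¹, mul_inv_cancel₀ hne⟩
    have hscal : ∀ v : W, ρW (QuotientGroup.mk' N0 x) v = u • v := fun v => Subtype.ext (by
      show w x (v : V) = u • (v : V)
      show (ρ x.1.1 * s (tb x⁻¹)) (v : V) = _
      rw [hxg, one_mul]
      have : tb x⁻¹ = u • 1 := by
        have h2 := htbinv' x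
        rw [hct, mul_smul_comm, mul_one] at h2
        rw [← h2, smul_smul, mul_comm, hu, one_smul]
      rw [this, map_smul, map_one]
      rfl)
    have hval : ΦW (QuotientGroup.mk' N0 x) = (dW : ℂ) * liftRoot M (pm p (twist A ⧸ N0)) u := by
      have h2 := congrFun hreg (QuotientGroup.mk' N0 x)
      rw [CfsgLib.BlockArith.pRegularPart_apply, if_neg hz] at h2
      rw [h2, brauerFun_of_scalar ρW hz hscal]
    have hucard : u ^ pm p (twist A ⧸ N0) = 1 := by
      have := hirr.1
      obtain ⟨v, hv⟩ := exists_ne (0 : W)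
      have h2 : ρW (QuotientGroup.mk' N0 x ^ pm p (twist A ⧸ N0)) v = u ^ pm p (twist A ⧸ N0) • v := by
        generalize pm p (twist A ⧸ N0) = m
        induction m with
        | zero => rw [pow_zero, pow_zero, map_one, one_smul]; rfl
        | succ m ih => rw [pow_succ', map_mul, Module.End.mul_apply, ih, map_smul, hscal, smul_smul, pow_succ]
      rw [pow_pm_eq_one hM.1 hz, map_one, Module.End.one_apply] at h2
      exact (smul_left_injective (Res M) hv (show (1 : Res M) • v = _ by rw [one_smul]; exact h2)).symm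
    have hnN : ¬ p ∣ n * Nat.card N := fun h => (hM.1.dvd_mul.mp h).elim (fun h => hN (h.trans (by
      rw [← CfsgLib.CharBlocks.charDegree_eq (dim_eq A hA)]
      exact CfsgLib.CharBlocks.charDegree_dvd_card θ.2))) hN
    have hinvc := resI_units_inv hM hnN hc hu (not_dvd_pm hM.1) hucard
    rw [hΨ1]
    show (((x.1.2 : Matrix (Fin n) (Fin n) (locRing M)).trace : locRing M) : ℂ) * _ = _
    rw [hval, hcx, Matrix.trace_smul, Matrix.trace_one, Fintype.card_fin]
    push_cast [smul_eq_mul]
    rw [mul_mul_mul_comm, mul_comm (c : ℂ), mul_assoc, mul_comm (dW : ℂ) (liftRoot _ _ _)] at *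
    linear_combination ((n : ℂ) * (dW : ℂ)) * hinvc
  obtain ⟨ψ, hψ, hψe⟩ := exists_eq_comp_mk' Ker hΨ hker
  let e : twist A ⧸ Ker ≃* G := QuotientGroup.quotientKerEquivOfSurjective (twistProj A) hsurj
  have hΦ : ∀ x : twist A, ψ (e.symm (twistProj A x)) = Ψ x := fun x => by
    rw [← hψe]
    show ψ _ = ψ _
    congr 1
    exact e.symm_apply_eq.mpr rfl
  refine ⟨ψ ∘ e.symm, CfsgLib.Char.isCharacter_comp hψ e.symm.toMonoidHom, ?_, fun g hg => ?_⟩
  · rw [Function.comp_apply, ← map_one (twistProj A), hΦ, hΨ1, hdim]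
  obtain ⟨x, rfl⟩ := hsurj g
  rw [Function.comp_apply, hΦ]
  have hx : ¬ p ∣ orderOf (QuotientGroup.mk' N0 x) := by
    refine fun h => ?_
    have h2 : x ^ (orderOf (twistProj A x) * Nat.card Ker) = 1 := by
      rw [pow_mul]
      have hmem : x ^ orderOf (twistProj A x) ∈ Ker := by
        rw [MonoidHom.mem_ker, map_pow, pow_orderOf_eq_one]
      exact congrArg Subtype.val (pow_card_eq_one' (x := (⟨_, hmem⟩ : Ker)))
    rcases hM.1.dvd_mul.mp ((h.trans (orderOf_map_dvd _ x)).trans (orderOf_dvd_of_pow_eq_one h2)) with h3 | h3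
    · exact hg h3
    · exact hkerp h3
  have hmemW : ∀ v ∈ LinearMap.range (s (Matrix.single i₀ i₀ 1)),
      w x v ∈ LinearMap.range (s (Matrix.single i₀ i₀ 1)) := fun v hv => hwW (QuotientGroup.mk' N0 x) v hv
  show resI M (_ * _) = _
  rw [resI_mul (SetLike.coe_mem _) (char_mem_locRing hΦW.isChar _), resI_coe, hΦW.trace _ hx,
    twistProj_apply, hρg x, ← hwcomm, splitMatrix_trace s i₀ (w x) (fun X => hwcomm x X) hmemW]
  congr 1
  exact AddMonoidHom.map_trace (res M).toAddMonoidHom _

end CfsgLib.Modular.FongSwan
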