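import Cfsg.Agent.Lib.Modular.FongSwan.Invariant
import Cfsg.Agent.Lib.Modular.Lifting

/-!
# The Fong–Swan theorem

* `hasLifts_of_isPSolvable`: in a `p`-solvable group every simple module lifts;
* `fongSwan`: every irreducible Brauer character is the regular part of an irreducible character.
-/

set_option autoImplicit false

noncomputable section

universe u

namespace CfsgLib.Modular.FongSwan

open Cfsg CfsgLib.Blocks CfsgLib.Char CfsgLib.CharNormal
open scoped Classical

attribute [local instance] CfsgLib.Blocks.resField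

variable {M : Ideal AlgInt} [M.IsMaximal] {p : ℕ}

/-- The induction, on the index of a central `p'`-subgroup. -/
theorem hasLifts_aux (hM : IsPModular p M) (k : ℕ) : ∀ (G : Type u) [Group G] [Finite G],
    IsPSolvable p G → ∀ Z : Subgroup G, Z ≤ Subgroup.center G → ¬ p ∣ Nat.card Z → Z.index = k →
      HasLifts p M G := by
  induction k using Nat.strong_induction_on with
  | _ k ih =>
  intro G _ _ hsolv Z hZc hZp hk V _ _ _ ρ hρ
  have : Fact p.Prime := ⟨hM.1⟩
  let : Fintype G := Fintype.ofFinite _
  have hZn : Z.Normal := ⟨fun z hz g => by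
    rw [Subgroup.mem_center_iff.mp (hZc hz) g, mul_assoc, mul_inv_cancel, mul_one]; exact hz⟩
  have hZN : Z ≤ pPrimeCore p G := CfsgLib.Cores.le_pPrimeCore_of_not_dvd hZp
  rcases hZN.lt_or_eq with hlt | heq
  · -- the core is not central: its characters
    set N := pPrimeCore p G with hNdef
    have hN : ¬ p ∣ Nat.card N := CfsgLib.Cores.not_dvd_card_pPrimeCore p
    have : N.Normal := inferInstance
    let : Fintype N := Fintype.ofFinite _
    have := hρ.1
    obtain ⟨θ, h0⟩ : ∃ θ : IrrCharacter N,
        pproj hM hN (ρ.comp N.subtype : Representation (Res M) N V) θ ≠ 0 := by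
      by_contra hall
      push Not at hall
      obtain ⟨v, hv⟩ := exists_ne (0 : V)
      have h1 := LinearMap.congr_fun (sum_pproj hM hN (ρ.comp N.subtype : Representation (Res M) N V)) v
      rw [Finset.sum_eq_zero fun θ _ => hall θ] at h1
      exact hv h1.symm
    by_cases hT : inertia N (θ : N → ℂ) = ⊤
    · refine hasLift_of_invariant hM hN hsolv hρ θ hT h0 fun n A hfin hsolv' Z' hc hp' hi => ?_
      have : N.index < k := hk ▸ Subgroup.index_strictAnti hlt
      exact ih N.index this _ hsolv' Z' hc hp' hi
    · refine hasLift_of_not_invariant hM hN hρ θ h0 ?_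
      set T := inertia N (θ : N → ℂ)
      have hZT : Z ≤ T := hZN.trans (le_inertia N (isClassFunction_of_isIrr θ.2))
      have hidx : (Z.subgroupOf T).index < k := by
        have h1 := Subgroup.relIndex_mul_index hZT
        have h2 : 1 < T.index := Subgroup.one_lt_index_of_ne_top hT
        rw [← hk, ← h1]
        exact lt_mul_of_one_lt_right (Nat.pos_of_ne_zero fun h => Subgroup.index_ne_zero_of_finite (H := Z) (by rw [← h1, show Z.relIndex T = 0 from h, zero_mul])) h2
      refine ih _ hidx T (CfsgLib.Transfer.isPSolvable_subgroup hsolv T) _ (fun t ht => ?_) ?_ rfl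
      · exact Subgroup.mem_center_iff.mpr fun s => Subtype.ext (Subgroup.mem_center_iff.mp (hZc ht) s)
      · rwa [Nat.card_congr (Subgroup.subgroupOfEquivOfLe hZT).toEquiv]
  · -- the core is central
    by_cases htop : Z = ⊤
    · have hG : ¬ p ∣ Nat.card G := by rwa [htop, Subgroup.card_top] at hZp
      exact ⟨brauerFun p M ρ, isCharacter_brauerFun hM hG ρ, brauerFun_one ρ hM,
        fun g hg => (resI_brauerFun ρ hM hg).2⟩
    · obtain ⟨P, hPn, hP0, hPp⟩ :=
        exists_normal_pSubgroup_of_central_core hsolv hZc hZp heq.ge htop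
      refine hasLift_of_pSubgroup hM hρ P hPp ?_
      have hZ' : Z.map (QuotientGroup.mk' P) ≤ Subgroup.center _ := by
        rintro _ ⟨z, hz, rfl⟩
        refine Subgroup.mem_center_iff.mpr fun q => ?_
        obtain ⟨y, rfl⟩ := QuotientGroup.mk'_surjective P q
        rw [← map_mul, ← map_mul, Subgroup.mem_center_iff.mp (hZc hz) y]
      have hlt : (Z.map (QuotientGroup.mk' P)).index < k := by
        rw [Subgroup.index_map, QuotientGroup.range_mk', Subgroup.index_top, mul_one, QuotientGroup.ker_mk',
          ← hk]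
        refine Subgroup.index_strictAnti (lt_of_le_of_ne le_sup_left fun h => hP0 ?_)
        have hle : P ≤ Z := h ▸ le_sup_right
        obtain ⟨m, hm⟩ := hPp.exists_card_eq
        rcases Nat.eq_zero_or_pos m with rfl | hm0
        · exact Subgroup.eq_bot_of_card_eq P (by rw [hm, pow_zero])
        · exact absurd ((hm ▸ dvd_pow_self p hm0.ne').trans (Subgroup.card_dvd_of_le hle)) hZp
      exact ih _ hlt _ (CfsgLib.Transfer.isPSolvable_quotient hsolv P) _ hZ'
        (fun h => hZp (h.trans (Subgroup.card_map_dvd _ _))) rfl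

/-- In a `p`-solvable group every simple module lifts. -/
theorem hasLifts_of_isPSolvable (hM : IsPModular p M) {G : Type*} [Group G] [Finite G]
    (hsolv : IsPSolvable p G) : HasLifts p M G :=
  hasLifts_aux hM _ G hsolv ⊥ bot_le
    (by rw [Subgroup.card_bot]; exact hM.1.not_dvd_one) rfl

/-- **Fong–Swan**: irreducible Brauer characters of a `p`-solvable group lift. -/
theorem fongSwan (hM : IsPModular p M) {G : Type*} [Group G] [Fintype G] (hsolv : IsPSolvable p G)
    {φ : G → ℂ} (hφ : φ ∈ ibrF hM G) : ∃ χ : IrrCharacter G, pRegularPart p (χ : G → ℂ) = φ := by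
  obtain ⟨i, σ, hσ, rfl⟩ := mem_ibrF.mp hφ
  have hirr := irrAction_of_isIrreducible hσ
  obtain ⟨Φ, hΦ⟩ := hasLifts_of_isPSolvable hM hsolv (Fin i → Res M) σ hirr
  obtain ⟨h1, h2⟩ := hΦ.pRegularPart_eq_brauerFun hM hσ
  exact ⟨⟨Φ, h2⟩, h1⟩

end CfsgLib.Modular.FongSwan
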