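import Mathlib.LinearAlgebra.Trace
import Mathlib.LinearAlgebra.PID
import Mathlib.RingTheory.PrincipalIdealDomain
import Mathlib.LinearAlgebra.Matrix.ToLin
import Mathlib.LinearAlgebra.FiniteDimensional.Lemmas
import Mathlib.Data.Matrix.Basis

/-!
# Modules over a matrix algebra

For an algebra map `s` from a matrix algebra to the endomorphisms of `V`, with `W = s(E₀₀) V`:
* `finrank_eq_card_mul`: a decomposition into copies of `W` counts dimensions;
* `splitMatrix_finrank`: `dim V = n * dim W`;
* `splitMatrix_trace`: the trace of `s X * w`, for `w` commuting with `s`, is `tr X * tr (w on W)`;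
* `exists_conjugating_matrix`: endomorphisms of a matrix algebra are inner.
-/

set_option autoImplicit false

namespace CfsgLib.Modular.FongSwan

open Matrix

variable {k : Type*} [Field k] {V W : Type*} [AddCommGroup V] [Module k V] [AddCommGroup W] [Module k W]

/-- A decomposition into copies of `W`. -/
theorem finrank_eq_card_mul [FiniteDimensional k W] {ι : Type*} [Fintype ι] [DecidableEq ι]
    (A : ι → V →ₗ[k] W) (B : ι → W →ₗ[k] V) (hsum : ∀ v, ∑ i, B i (A i v) = v)
    (hdelta : ∀ i j w, A i (B j w) = if i = j then w else 0) :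
    Module.finrank k V = Fintype.card ι * Module.finrank k W := by
  let e : V ≃ₗ[k] (ι → W) :=
    { toLinearMap := LinearMap.pi A
      invFun := fun f => ∑ i, B i (f i)
      left_inv := hsum
      right_inv := fun f => by
        funext i
        show A i (∑ j, B j (f j)) = f i
        rw [map_sum, Finset.sum_congr rfl fun j _ => hdelta i j (f j), Finset.sum_ite_eq, if_pos (Finset.mem_univ _)] }
  rw [e.finrank_eq, Module.finrank_pi_fintype k, Finset.sum_const, Finset.card_univ, smul_eq_mul]

variable [FiniteDimensional k V] {n : ℕ} (s : Matrix (Fin n) (Fin n) k →ₐ[k] Module.End k V) (i₀ : Fin n)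

omit [FiniteDimensional k V] in
theorem splitMatrix_mul (i j j' l : Fin n) :
    s (single i j 1) * s (single j' l 1) = if j = j' then s (single i l 1) else 0 := by
  rw [← map_mul]
  split_ifs with h
  · subst h; rw [single_mul_single_same, mul_one]
  · rw [single_mul_single_of_ne _ _ _ _ h, map_zero]

omit [FiniteDimensional k V] in
theorem splitMatrix_fix {v : V} (hv : v ∈ LinearMap.range (s (single i₀ i₀ 1))) :
    s (single i₀ i₀ 1) v = v := by
  obtain ⟨x, rfl⟩ := hv
  rw [← Module.End.mul_apply, splitMatrix_mul, if_pos rfl]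

omit [FiniteDimensional k V] in
theorem splitMatrix_diag_sum (v : V) : ∑ j : Fin n, s (single j i₀ 1) (s (single i₀ j 1) v) = v := by
  have h : ∑ j : Fin n, (single j j (1 : k)) = 1 := by
    ext a b
    simp [Matrix.sum_apply, single_apply, one_apply, ite_and]
  have h2 := congrArg (fun X => s X v) h
  simp only [map_sum, LinearMap.sum_apply, map_one, Module.End.one_apply] at h2
  conv_rhs => rw [← h2]
  exact Finset.sum_congr rfl fun j _ => by rw [← Module.End.mul_apply, splitMatrix_mul, if_pos rfl]

omit [FiniteDimensional k V] in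
theorem splitMatrix_mem (j : Fin n) (v : V) :
    s (single i₀ j 1) v ∈ LinearMap.range (s (single i₀ i₀ 1)) :=
  ⟨s (single i₀ j 1) v, by rw [← Module.End.mul_apply, splitMatrix_mul, if_pos rfl]⟩

theorem splitMatrix_finrank :
    Module.finrank k V = n * Module.finrank k (LinearMap.range (s (single i₀ i₀ 1))) := by
  rw [finrank_eq_card_mul (fun j => (s (single i₀ j 1)).codRestrict _ (splitMatrix_mem s i₀ j))
    (fun j => (s (single j i₀ 1)).comp (Submodule.subtype _)) (splitMatrix_diag_sum s i₀)
    (fun i j w => Subtype.ext (by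
      show s (single i₀ i 1) (s (single j i₀ 1) (w : V)) = _
      rw [← Module.End.mul_apply, splitMatrix_mul]
      split_ifs with h
      · exact splitMatrix_fix s i₀ w.2
      · simp)), Fintype.card_fin]

/-- The trace on `V` factors. -/
theorem splitMatrix_trace (w : Module.End k V) (hw : ∀ X, s X * w = w * s X)
    (hmem : ∀ x ∈ LinearMap.range (s (single i₀ i₀ 1)), w x ∈ LinearMap.range (s (single i₀ i₀ 1)))
    (X : Matrix (Fin n) (Fin n) k) :
    LinearMap.trace k V (s X * w) =
      X.trace * LinearMap.trace k _ (w.restrict hmem) := by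
  classical
  set c := LinearMap.trace k V (s (single i₀ i₀ 1) * w) with hc
  have hres : LinearMap.trace k _ (w.restrict hmem) = c := by
    rw [hc, ← LinearMap.trace_restrict_eq_of_forall_mem (LinearMap.range (s (single i₀ i₀ 1)))
      (s (single i₀ i₀ 1) * w) (fun x => ⟨w x, rfl⟩)]
    congr 1
    refine LinearMap.ext fun x => Subtype.ext ?_
    show w (x : V) = s (single i₀ i₀ 1) (w (x : V))
    exact (splitMatrix_fix s i₀ (hmem x x.2)).symm
  rw [hres]
  have hij : ∀ i j, LinearMap.trace k V (s (single i j 1) * w) = if i = j then c else 0 := by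
    intro i j
    rw [show s (single i j 1) = s (single i i₀ 1) * s (single i₀ j 1) by
      rw [splitMatrix_mul, if_pos rfl], mul_assoc, LinearMap.trace_mul_comm, mul_assoc, ← hw, ← mul_assoc,
      splitMatrix_mul]
    by_cases h : i = j
    · subst h; rw [if_pos rfl, if_pos rfl]
    · rw [if_neg (Ne.symm h), if_neg h, zero_mul, map_zero]
  conv_lhs => rw [matrix_eq_sum_single X]
  simp only [map_sum, Finset.sum_mul]
  rw [Matrix.trace, Finset.sum_mul]
  refine Finset.sum_congr rfl fun i _ => ?_
  rw [Finset.sum_eq_single i]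
  · rw [show single i i (X i i) = (X i i) • single i i (1 : k) by rw [smul_single, smul_eq_mul, mul_one],
      map_smul, smul_mul_assoc, map_smul, hij, if_pos rfl, smul_eq_mul, Matrix.diag_apply]
  · intro j _ hj
    rw [show single i j (X i j) = (X i j) • single i j (1 : k) by rw [smul_single, smul_eq_mul, mul_one],
      map_smul, smul_mul_assoc, map_smul, hij, if_neg (Ne.symm hj), smul_zero]
  · simp

/-- Endomorphisms of a matrix algebra are inner. -/
theorem exists_conjugating_matrix (φ : Matrix (Fin n) (Fin n) k →ₐ[k] Matrix (Fin n) (Fin n) k)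
    (hn : 0 < n) :
    ∃ t : Matrix (Fin n) (Fin n) k, IsUnit t.det ∧ ∀ Y, φ Y * t = t * Y := by
  classical
  let i₀ : Fin n := ⟨0, hn⟩
  have : Nonempty (Fin n) := ⟨i₀⟩
  have hne : φ (single i₀ i₀ 1) ≠ 0 := by
    intro h0
    apply (one_ne_zero (α := Matrix (Fin n) (Fin n) k))
    rw [← map_one φ, show (1 : Matrix (Fin n) (Fin n) k) = ∑ j, single j i₀ 1 * single i₀ i₀ 1 * single i₀ j 1 by
      ext a b; simp [Matrix.sum_apply, single_apply, one_apply, ite_and], map_sum]
    exact Finset.sum_eq_zero fun j _ => by rw [map_mul, map_mul, h0, mul_zero, zero_mul]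
  obtain ⟨v, hv⟩ : ∃ v, φ (single i₀ i₀ 1) *ᵥ v ≠ 0 := by
    by_contra h
    push Not at h
    exact hne (ext_of_mulVec_single fun j => by rw [h, zero_mulVec])
  let t : Matrix (Fin n) (Fin n) k := of fun i j => (φ (single j i₀ 1) *ᵥ v) i
  have ht : ∀ x : Fin n → k, t *ᵥ x = ∑ j, x j • (φ (single j i₀ 1) *ᵥ v) := fun x => by
    funext i
    simp [t, mulVec, dotProduct, Finset.sum_apply, mul_comm]
  have hmul : ∀ Y, φ Y * t = t * Y := fun Y => by
    refine ext_of_mulVec_single fun j => ?_
    rw [← mulVec_mulVec, ← mulVec_mulVec, ht, ht]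
    simp only [Pi.single_apply, ite_smul, one_smul, zero_smul, Finset.sum_ite_eq', Finset.mem_univ,
      if_true]
    have hcol : Y * single j i₀ 1 = ∑ x, (Y *ᵥ Pi.single j 1) x • single x i₀ (1 : k) := by
      ext a b
      simp [Matrix.sum_apply, Matrix.mul_apply, single_apply, ite_and]
    rw [mulVec_mulVec, ← map_mul, hcol, map_sum, sum_mulVec]
    exact Finset.sum_congr rfl fun x _ => by rw [map_smul, smul_mulVec]
  refine ⟨t, ?_, hmul⟩
  rw [← isUnit_iff_isUnit_det, ← mulVec_injective_iff_isUnit]
  refine (injective_iff_map_eq_zero t.mulVecLin).mpr fun x hx => funext fun j => ?_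
  have h := congrArg (fun y => φ (single i₀ j 1) *ᵥ y) (show t *ᵥ x = 0 from hx)
  simp only [ht, mulVec_zero, mulVec_sum, mulVec_smul, mulVec_mulVec, ← map_mul] at h
  rw [Finset.sum_eq_single j] at h
  · rw [single_mul_single_same, mul_one] at h
    exact (smul_eq_zero.mp h).resolve_right hv
  · intro l _ hl
    rw [single_mul_single_of_ne _ _ _ _ (Ne.symm hl), map_zero, zero_mulVec, smul_zero]
  · simp

end CfsgLib.Modular.FongSwan
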