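import Cfsg.Agent.Lib.Modular.FongSwan.Setup
import Cfsg.Agent.Lib.Modular.FongSwan.PPrimeAlg
import Cfsg.Agent.Lib.Modular.FongSwan.SplitMatrix
import Cfsg.Agent.Lib.Cores.Basic
import Cfsg.Agent.Lib.CharNormal.SylowNormalizesSylow
import Cfsg.Agent.Lib.CharNormal.Clifford
import Cfsg.Agent.Lib.FGS.FreeOverComplement
import Cfsg.Agent.Lib.DefectZero.Reduction
import Cfsg.Agent.Lib.Char.Induced
import Mathlib.GroupTheory.Nilpotent

/-!
# Reductions for the lifting of simple modules

* `exists_normal_pSubgroup_of_central_core`: a central `p'`-core forces a normal `p`-subgroup;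
* `hasLift_of_pSubgroup`: a normal `p`-subgroup acts trivially;
* `hasLift_of_not_invariant`: induction from an inertia group.
-/

set_option autoImplicit false

noncomputable section

namespace CfsgLib.Modular.FongSwan

open Cfsg CfsgLib.Blocks CfsgLib.Char CfsgLib.CharNormal
open scoped Classical

attribute [local instance] CfsgLib.Blocks.resField

theorem exists_normal_pSubgroup_of_central_core {p : ℕ} [Fact p.Prime] {G : Type*} [Group G] [Finite G]
    (hsolv : IsPSolvable p G) {Z : Subgroup G} (hZ : Z ≤ Subgroup.center G) (hZp : ¬ p ∣ Nat.card Z)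
    (hcore : pPrimeCore p G ≤ Z) (hne : Z ≠ ⊤) :
    ∃ P : Subgroup G, P.Normal ∧ P ≠ ⊥ ∧ IsPGroup p P := by
  have hp : p.Prime := Fact.out
  have : Z.Normal := ⟨fun z hz g => by
    rw [Subgroup.mem_center_iff.mp (hZ hz) g, mul_assoc, mul_inv_cancel, mul_one]; exact hz⟩
  have : Nontrivial (G ⧸ Z) := QuotientGroup.nontrivial_iff.mpr hne
  obtain ⟨L, hLn, hL0, hL⟩ :=
    CfsgLib.CharNormal.exists_small_normal_of_isPSolvable (CfsgLib.Transfer.isPSolvable_quotient hsolv Z)
  let L' : Subgroup G := L.comap (QuotientGroup.mk' Z)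
  have hL'n : L'.Normal := hLn.comap _
  have hsurj := QuotientGroup.mk'_surjective Z
  have hmap : L'.map (QuotientGroup.mk' Z) = L := Subgroup.map_comap_eq_self_of_surjective hsurj L
  let f : L' →* L := ((QuotientGroup.mk' Z).comp L'.subtype).codRestrict L fun x => x.2
  have hf : Function.Surjective f := fun y => by
    obtain ⟨x, hx⟩ := hsurj y
    exact ⟨⟨x, show QuotientGroup.mk' Z x ∈ L from hx.symm ▸ y.2⟩, Subtype.ext hx⟩
  have hker : ∀ x, x ∈ f.ker ↔ (x : G) ∈ Z := fun x => by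
    rw [MonoidHom.mem_ker, Subtype.ext_iff]
    exact QuotientGroup.eq_one_iff (x : G)
  have hcardker : ¬ p ∣ Nat.card f.ker := fun h => hZp (h.trans (Subgroup.card_dvd_of_injective
    ((L'.subtype.comp f.ker.subtype).codRestrict Z fun x => (hker x).mp x.2)
    fun x y e => Subtype.ext (Subtype.ext (congrArg (fun z : Z => (z : G)) e))))
  have hcard : Nat.card L' = Nat.card L * Nat.card f.ker := by
    rw [Subgroup.card_eq_card_quotient_mul_card_subgroup f.ker,
      Nat.card_congr (QuotientGroup.quotientKerEquivOfSurjective f hf).toEquiv]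
  rcases hL with hL | hL
  swap
  · exfalso
    have h1 : ¬ p ∣ Nat.card L' := by
      rw [hcard, hp.dvd_mul]
      exact not_or.mpr ⟨(CfsgLib.Cores.coprime_iff_not_dvd hp _).mp hL, hcardker⟩
    have h2 : L' ≤ Z := (CfsgLib.Cores.le_pPrimeCore_of_not_dvd h1).trans hcore
    refine hL0 (hmap.symm.trans ((Subgroup.map_eq_bot_iff _).mpr ?_))
    rw [QuotientGroup.ker_mk']
    exact h2
  · have : Group.IsNilpotent L := hL.isNilpotent
    have : Group.IsNilpotent L' := Subgroup.isNilpotent_of_ker_le_center f fun x hx =>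
      Subgroup.mem_center_iff.mpr fun y =>
        Subtype.ext (Subgroup.mem_center_iff.mp (hZ ((hker x).mp hx)) y)
    obtain ⟨S⟩ := (inferInstance : Nonempty (Sylow p L'))
    have hSn : (S : Subgroup L').Normal :=
      ((Group.isNilpotent_of_finite_tfae (G := L')).out 0 3 rfl rfl).mp ‹_› p inferInstance S
    have : (S : Subgroup L').Characteristic := S.characteristic_of_normal hSn
    refine ⟨(S : Subgroup L').map L'.subtype, inferInstance, fun h0 => ?_, S.isPGroup'.map _⟩
    have hS : (S : Subgroup L') = ⊥ :=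
      (Subgroup.map_eq_bot_iff_of_injective _ L'.subtype_injective).mp h0
    have h1 : ¬ p ∣ Nat.card L' := fun hd => by
      have := S.dvd_card_of_dvd_card hd
      rw [hS, Subgroup.card_bot] at this
      exact hp.not_dvd_one this
    obtain ⟨m, hm⟩ := hL.exists_card_eq
    rcases Nat.eq_zero_or_pos m with rfl | hm0
    · rw [pow_zero] at hm
      exact hL0 (Subgroup.eq_bot_of_card_eq L hm)
    · exact h1 (hcard ▸ (hm ▸ dvd_pow_self p hm0.ne').mul_right _)

variable {M : Ideal AlgInt} [M.IsMaximal] {p : ℕ} {G : Type*} [Group G] [Finite G]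
  {V : Type} [AddCommGroup V] [Module (Res M) V] [FiniteDimensional (Res M) V]

theorem hasLift_of_pSubgroup (hM : IsPModular p M) {ρ : Representation (Res M) G V} (hρ : IrrAction ρ)
    (P : Subgroup G) [P.Normal] (hP : IsPGroup p P) (hq : HasLifts p M (G ⧸ P)) :
    ∃ Φ, IsTraceLift p Φ ρ := by
  have : Fact p.Prime := ⟨hM.1⟩
  have : CharP (Res M) p := res_charP M hM
  have := hρ.1
  obtain ⟨u, hu0, hu⟩ := CfsgLib.FGS.FreeCompl.exists_fixed_of_pGroup (k := Res M) hP
    ((ρ : G →* Module.End (Res M) V).comp P.subtype)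
  let U : Submodule (Res M) V := ⨅ x : P, LinearMap.ker (ρ (x : G) - 1)
  have hmem : ∀ v, v ∈ U ↔ ∀ x : P, ρ (x : G) v = v := fun v => by
    simp [U, sub_eq_zero]
  have htop : U = ⊤ := by
    refine hρ.eq_top (fun g v hv => (hmem _).mpr fun x => ?_) ((hmem u).mpr hu) hu0
    have hx : g⁻¹ * x * g ∈ P := by
      simpa using (inferInstance : P.Normal).conj_mem _ x.2 g⁻¹
    have h1 := (hmem v).mp hv ⟨_, hx⟩
    rw [← Module.End.mul_apply, ← map_mul, show (x : G) * g = g * (g⁻¹ * x * g) by group, map_mul,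
      Module.End.mul_apply, h1]
  have htriv : P ≤ (ρ : G →* Module.End (Res M) V).ker := fun x hx => by
    refine LinearMap.ext fun v => ?_
    exact (hmem v).mp (htop ▸ Submodule.mem_top) ⟨x, hx⟩
  let ρ' : Representation (Res M) (G ⧸ P) V := QuotientGroup.lift P ρ htriv
  have hρ' : ∀ g, ρ' (QuotientGroup.mk' P g) = ρ g := fun g => rfl
  obtain ⟨Φ, hΦ⟩ := hq V ρ' ⟨hρ.1, fun U hU => hρ.2 U fun g v hv => hρ' g ▸ hU _ v hv⟩
  exact ⟨Φ ∘ QuotientGroup.mk' P, hΦ.of_surjective _ fun g => (hρ' g).symm⟩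

variable {N : Subgroup G} [N.Normal] [Fintype N]

/-- Conjugation moves the projection of `θ` to that of its conjugate. -/
theorem rho_conj_pproj [Fintype G] (hM : IsPModular p M) (hN : ¬ p ∣ Nat.card N) (ρ : Representation (Res M) G V)
    (θ : IrrCharacter N) (g : G) :
    ρ g * pproj hM hN (ρ.comp N.subtype : Representation (Res M) N V) θ =
      pproj hM hN (ρ.comp N.subtype : Representation (Res M) N V) (conjIrr N g⁻¹ θ) * ρ g := by
  rw [pproj_eq_sum, pproj_eq_sum, Finset.mul_sum, Finset.sum_mul]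
  refine Fintype.sum_equiv (MulAut.conjNormal g).toEquiv _ _ fun a => ?_
  rw [mul_smul_comm, smul_mul_assoc]
  congr 1
  · congr 1
    · rw [cbar, cbar, conjIrr_coe, conjFun_apply_one]
    · rw [conjIrr_coe, conjFun_apply]
      congr 2
      refine congrArg (θ : N → ℂ) (Subtype.ext ?_)
      show (a : G)⁻¹ = g⁻¹ * ((MulAut.conjNormal g a : N) : G)⁻¹ * g⁻¹⁻¹
      rw [MulAut.conjNormal_apply]
      group
  · show ρ g * ρ (a : G) = ρ ((MulAut.conjNormal g a : N) : G) * ρ g
    rw [← map_mul, ← map_mul, MulAut.conjNormal_apply, mul_assoc, inv_mul_cancel, mul_one]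

theorem rho_comm_pproj_of_mem [Fintype G] (hM : IsPModular p M) (hN : ¬ p ∣ Nat.card N)
    (ρ : Representation (Res M) G V) (θ : IrrCharacter N) {g : G} (hg : g ∈ inertia N (θ : N → ℂ)) :
    ρ g * pproj hM hN (ρ.comp N.subtype : Representation (Res M) N V) θ =
      pproj hM hN (ρ.comp N.subtype : Representation (Res M) N V) θ * ρ g := by
  rw [rho_conj_pproj, show conjIrr N g⁻¹ θ = θ from Subtype.ext (by
    rw [conjIrr_coe]; exact mem_inertia N |>.mp (inv_mem hg))]

theorem pproj_eq_one_of_invariant [Fintype G] (hM : IsPModular p M) (hN : ¬ p ∣ Nat.card N)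
    {ρ : Representation (Res M) G V} (hρ : IrrAction ρ) (θ : IrrCharacter N)
    (hinv : inertia N (θ : N → ℂ) = ⊤)
    (h0 : pproj hM hN (ρ.comp N.subtype : Representation (Res M) N V) θ ≠ 0) :
    pproj hM hN (ρ.comp N.subtype : Representation (Res M) N V) θ = 1 := by
  have h := hρ.range_eq_top (fun g => rho_comm_pproj_of_mem hM hN ρ θ (g := g) (hinv ▸ Subgroup.mem_top g)) h0
  refine LinearMap.ext fun v => ?_
  obtain ⟨u, rfl⟩ := LinearMap.range_eq_top.mp h v
  rw [← Module.End.mul_apply, pproj_mul, if_pos rfl]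
  rfl

theorem hasLift_of_not_invariant [Fintype G] (hM : IsPModular p M) (hN : ¬ p ∣ Nat.card N)
    {ρ : Representation (Res M) G V} (hρ : IrrAction ρ) (θ : IrrCharacter N)
    (h0 : pproj hM hN (ρ.comp N.subtype : Representation (Res M) N V) θ ≠ 0)
    (hT : HasLifts p M (inertia N (θ : N → ℂ))) : ∃ Φ, IsTraceLift p Φ ρ := by
  have : Fact p.Prime := ⟨hM.1⟩
  set T := inertia N (θ : N → ℂ) with hTdef
  let P := pproj hM hN (ρ.comp N.subtype : Representation (Res M) N V) θ
  have hPP : P * P = P := (pproj_mul _ _ _ _ _).trans (if_pos rfl)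
  have hout : ∀ g : G, g ∉ T → P * ρ g * P = 0 := fun g hg => by
    rw [mul_assoc, rho_conj_pproj hM hN ρ θ g, ← mul_assoc, pproj_mul, if_neg, zero_mul]
    intro e
    refine hg (inv_mem_iff.mp (mem_inertia N |>.mpr ?_))
    rw [← conjIrr_coe, ← e]
  have hcomm : ∀ t : T, ρ (t : G) * P = P * ρ (t : G) := fun t => rho_comm_pproj_of_mem hM hN ρ θ t.2
  let F : G → Module.End (Res M) V := fun g => ρ g * P * ρ g⁻¹
  have hFT : ∀ g, ∀ t : T, F (g * t) = F g := fun g t => by
    show ρ (g * t) * P * ρ (g * (t : G))⁻¹ = ρ g * P * ρ g⁻¹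
    rw [map_mul, mul_assoc (ρ g), hcomm, mul_inv_rev, map_mul, mul_assoc, mul_assoc P,
      ← mul_assoc (ρ (t : G)), ← map_mul ρ, mul_inv_cancel, map_one, one_mul, ← mul_assoc]
  have hperm : ∀ g : G, ∀ q : G ⧸ T, ∃ t : T, g * q.out = (g • q).out * t := fun g q => by
    have hmem : (g • q).out⁻¹ * (g * q.out) ∈ T := QuotientGroup.eq.mp (by
      rw [QuotientGroup.out_eq', ← smul_eq_mul g, ← MulAction.Quotient.smul_mk, QuotientGroup.out_eq'])
    exact ⟨⟨_, hmem⟩, (mul_inv_cancel_left _ _).symm⟩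
  let : Fintype (G ⧸ T) := Fintype.ofFinite _
  let E : Module.End (Res M) V := ∑ q : G ⧸ T, F q.out
  have hdel : ∀ i j : G ⧸ T, P * ρ (i.out⁻¹ * j.out) * P = if i = j then P else 0 := fun i j => by
    split_ifs with h
    · subst h; rw [inv_mul_cancel, map_one, mul_one, hPP]
    · refine hout _ fun hmem => h ?_
      rw [← QuotientGroup.out_eq' i, ← QuotientGroup.out_eq' j]
      exact QuotientGroup.eq.mpr hmem
  have hEcomm : ∀ g, ρ g * E = E * ρ g := fun g => by
    show ρ g * ∑ q : G ⧸ T, F q.out = (∑ q : G ⧸ T, F q.out) * ρ g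
    rw [Finset.mul_sum, Finset.sum_mul]
    refine Fintype.sum_equiv (MulAction.toPerm g) _ _ fun q => ?_
    obtain ⟨t, ht⟩ := hperm g q
    rw [MulAction.toPerm_apply, ← hFT (g • q).out t, ← ht]
    show ρ g * (ρ q.out * P * ρ q.out⁻¹) = ρ (g * q.out) * P * ρ (g * q.out)⁻¹ * ρ g
    rw [map_mul, mul_inv_rev, map_mul]
    simp only [mul_assoc, ← map_mul ρ g⁻¹ g, inv_mul_cancel, map_one, mul_one]
  have hEF : ∀ j : G ⧸ T, E * (ρ j.out * P) = ρ j.out * P := fun j => by
    show (∑ q : G ⧸ T, F q.out) * _ = _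
    rw [Finset.sum_mul, Finset.sum_eq_single j]
    · show ρ j.out * P * ρ j.out⁻¹ * (ρ j.out * P) = _
      rw [mul_assoc (ρ j.out * P), ← mul_assoc (ρ j.out⁻¹), ← map_mul, inv_mul_cancel, map_one, one_mul,
        mul_assoc, hPP]
    · intro q _ hq
      show ρ q.out * P * ρ q.out⁻¹ * (ρ j.out * P) = 0
      rw [mul_assoc (ρ q.out * P), ← mul_assoc (ρ q.out⁻¹), ← map_mul, mul_assoc, ← mul_assoc P, hdel,
        if_neg hq, mul_zero]
    · simp
  have hEE : E * E = E := by
    show E * ∑ q : G ⧸ T, F q.out = ∑ q : G ⧸ T, F q.out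
    rw [Finset.mul_sum]
    exact Finset.sum_congr rfl fun q _ => by
      show E * (ρ q.out * P * ρ q.out⁻¹) = _
      rw [← mul_assoc, hEF]
  have hE0 : E ≠ 0 := fun h => h0 <| by
    have h1 := hEF ((1 : G) : G ⧸ T)
    rw [h, zero_mul] at h1
    have h2 := congrArg (ρ ((1 : G) : G ⧸ T).out⁻¹ * ·) h1
    simp only [mul_zero, ← mul_assoc, ← map_mul, inv_mul_cancel, map_one, one_mul] at h2
    exact h2.symm
  have hE1 : ∀ v, E v = v := fun v => by
    obtain ⟨u, rfl⟩ := LinearMap.range_eq_top.mp (hρ.range_eq_top hEcomm hE0) v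
    exact LinearMap.congr_fun hEE u
  let W : Submodule (Res M) V := LinearMap.range P
  have hfix : ∀ w ∈ W, P w = w := by
    rintro _ ⟨v, rfl⟩; exact LinearMap.congr_fun hPP v
  let ρT : Representation (Res M) T V := ρ.comp T.subtype
  have hW : ∀ t : T, ∀ w ∈ W, ρT t w ∈ W := by
    rintro t _ ⟨v, rfl⟩
    exact ⟨ρ (t : G) v, (LinearMap.congr_fun (hcomm t) v).symm⟩
  let ρW := restrictAct ρT W hW
  let A : G ⧸ T → V →ₗ[Res M] W := fun q => (P * ρ q.out⁻¹).codRestrict W fun v => ⟨_, rfl⟩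
  let B : G ⧸ T → W →ₗ[Res M] V := fun q => (ρ q.out).comp W.subtype
  have hsum : ∀ v, ∑ q, B q (A q v) = v := fun v => by
    conv_rhs => rw [← hE1 v]
    show _ = (∑ q : G ⧸ T, F q.out) v
    rw [LinearMap.sum_apply]
    rfl
  have hdelta : ∀ i j w, A i (B j w) = if i = j then w else 0 := fun i j w => by
    apply Subtype.ext
    show (P * ρ i.out⁻¹) (ρ j.out (w : V)) = _
    rw [← hfix _ w.2, ← Module.End.mul_apply, ← Module.End.mul_apply, mul_assoc P, ← map_mul, hdel]
    split_ifs <;> simp [hfix _ w.2]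
  have hdim := finrank_eq_card_mul A B hsum hdelta
  have := hρ.1
  have hirr : IrrAction ρW := by
    refine ⟨?_, fun U hU => ?_⟩
    · exact Module.nontrivial_of_finrank_pos (R := Res M) (Nat.pos_of_ne_zero fun h => by
        have := (Module.finrank_pos (R := Res M) (M := V))
        rw [hdim, h, mul_zero] at this
        exact lt_irrefl _ this)
    · refine or_iff_not_imp_left.mpr fun hU0 => ?_
      obtain ⟨u, hu, hu0⟩ := (Submodule.ne_bot_iff U).mp hU0
      let U' : Submodule (Res M) V := ⨆ q, U.map (B q)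
      have hinv : ∀ g, ∀ v ∈ U', ρ g v ∈ U' := by
        intro g v hv
        have hle : U'.map (ρ g) ≤ U' := by
          rw [Submodule.map_iSup]
          refine iSup_le fun q => ?_
          rintro _ ⟨_, ⟨w, hw, rfl⟩, rfl⟩
          refine Submodule.mem_iSup_of_mem (g • q) ⟨_, hU (hperm g q).choose w hw, ?_⟩
          show ρ (g • q).out (ρ (((hperm g q).choose : T) : G) (w : V)) = ρ g (ρ q.out (w : V))
          rw [← Module.End.mul_apply, ← Module.End.mul_apply, ← map_mul, ← map_mul, ← (hperm g q).choose_spec]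
        exact hle ⟨v, hv, rfl⟩
      have hu' : B ((1 : G) : G ⧸ T) u ∈ U' := Submodule.mem_iSup_of_mem _ ⟨u, hu, rfl⟩
      have hne : B ((1 : G) : G ⧸ T) u ≠ 0 := fun h => hu0 (by
        have h1 := hdelta ((1 : G) : G ⧸ T) ((1 : G) : G ⧸ T) u
        rwa [h, map_zero, if_pos rfl, eq_comm] at h1)
      have htop := hρ.eq_top hinv hu' hne
      rw [eq_top_iff]
      rintro w -
      let q₀ : G ⧸ T := ((1 : G) : G ⧸ T)
      have hle : U'.map (A q₀) ≤ U := by
        rw [Submodule.map_iSup]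
        refine iSup_le fun q => ?_
        rintro _ ⟨_, ⟨x, hx, rfl⟩, rfl⟩
        rw [hdelta]
        split_ifs
        · exact hx
        · exact U.zero_mem
      have := hle (Submodule.mem_map_of_mem (f := A q₀) (htop ▸ Submodule.mem_top (x := B q₀ w)))
      rwa [hdelta, if_pos rfl] at this
  let : Fintype T := Fintype.ofFinite _
  obtain ⟨Ψ, hΨ⟩ := hT W ρW hirr
  have hcl : IsClassFunction T Ψ := isClassFunction_of_isCharacter hΨ.isChar
  refine ⟨indFun T Ψ, isCharacter_indFun T hΨ.isChar, ?_, fun g hg => ?_⟩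
  · rw [indFun_one, hΨ.degree, hdim, ← Nat.card_eq_fintype_card, Nat.cast_mul]
    rfl
  have hform : indFun T Ψ g = ∑ q : G ⧸ T, extendByZero T Ψ (q.out⁻¹ * g * q.out) := by
    rw [indFun_apply, CfsgLib.DefectZero.sum_cosets T]
    simp only [Finset.mul_sum]
    refine Finset.sum_congr rfl fun q _ => ?_
    have e : ∀ u : T, extendByZero T Ψ ((q.out * u)⁻¹ * g * (q.out * u)) =
        extendByZero T Ψ (q.out⁻¹ * g * q.out) := fun u => by
      have := extendByZero_conj_mem Ψ hcl (inv_mem u.2) (q.out⁻¹ * g * q.out)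
      rw [← this]
      congr 1
      group
    simp only [e, Finset.sum_const, Finset.card_univ, nsmul_eq_mul, ← Nat.card_eq_fintype_card]
    rw [mul_inv_cancel_left₀ (card_subgroup_ne_zero T)]
  have hmemL : ∀ y, extendByZero T Ψ y ∈ locRing M := fun y => by
    by_cases hy : y ∈ T
    · rw [extendByZero_of_mem Ψ hy]; exact char_mem_locRing hΨ.isChar _
    · rw [extendByZero_of_notMem Ψ hy]; exact Subring.zero_mem _
  rw [hform, resI_finset_sum _ _ fun q _ => hmemL _]
  have hsplit : ρ g = ∑ q : G ⧸ T, (ρ g).comp ((B q).comp (A q)) := LinearMap.ext fun v => by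
    rw [LinearMap.sum_apply]
    simp only [LinearMap.comp_apply, ← map_sum, hsum]
  rw [hsplit, map_sum]
  refine Finset.sum_congr rfl fun q _ => ?_
  rw [← LinearMap.comp_assoc, LinearMap.trace_comp_comm']
  set y := q.out⁻¹ * g * q.out with hy'
  have hop : ∀ w : W, ((A q).comp ((ρ g).comp (B q)) w : V) = P (ρ y (P w)) := fun w => by
    show (P * ρ q.out⁻¹) (ρ g (ρ q.out (w : V))) = _
    rw [hfix _ w.2, hy', map_mul, map_mul]
    rfl
  by_cases hy : y ∈ T
  · rw [extendByZero_of_mem Ψ hy, hΨ.trace ⟨y, hy⟩ (by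
      rw [← orderOf_injective T.subtype T.subtype_injective ⟨y, hy⟩]
      show ¬ p ∣ orderOf y
      rwa [hy', show q.out⁻¹ * g * q.out = (MulAut.conj q.out⁻¹).toMonoidHom g by simp,
        orderOf_injective _ (MulEquiv.injective _)])]
    congr 1
    refine LinearMap.ext fun w => Subtype.ext ?_
    rw [hop, hfix _ w.2]
    exact (hfix _ (hW ⟨y, hy⟩ w w.2)).symm
  · have hz : resI M (0 : ℂ) = 0 := by
      have := resI_coe (0 : locRing M); rwa [map_zero] at this
    rw [extendByZero_of_notMem Ψ hy, hz, show (A q).comp ((ρ g).comp (B q)) = 0 from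
      LinearMap.ext fun w => Subtype.ext (by
        rw [hop, ← Module.End.mul_apply, ← Module.End.mul_apply, hout y hy]; rfl), map_zero]

end CfsgLib.Modular.FongSwan
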