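import Cfsg.Agent.Lib.Modular.FongSwan.TraceLift
import Cfsg.Agent.Lib.Modular.Coinduced

/-!
# Groups all of whose simple modules lift

* `IrrAction`: nonzero, without proper invariant subspace;
* `restrictAct`: the action on an invariant subspace;
* `HasLifts`: every simple module has a lift;
* `IsTraceLift.of_surjective`: inflation of lifts.
-/

set_option autoImplicit false

noncomputable section

namespace CfsgLib.Modular.FongSwan

open Cfsg CfsgLib.Blocks CfsgLib.Char

attribute [local instance] CfsgLib.Blocks.resField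

variable {M : Ideal AlgInt} [M.IsMaximal] {p : ℕ} {G : Type*} [Group G]
variable {V : Type*} [AddCommGroup V] [Module (Res M) V]

/-- Nonzero, and no proper invariant subspace. -/
def IrrAction (ρ : Representation (Res M) G V) : Prop :=
  Nontrivial V ∧ ∀ U : Submodule (Res M) V, (∀ g, ∀ u ∈ U, ρ g u ∈ U) → U = ⊥ ∨ U = ⊤

theorem irrAction_of_isIrreducible {ρ : Representation (Res M) G V} (h : ρ.IsIrreducible) :
    IrrAction ρ := by
  refine ⟨?_, fun U hU => ?_⟩
  · obtain ⟨a, b, hab⟩ := h.exists_pair_ne
    by_contra hV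
    rw [not_nontrivial_iff_subsingleton] at hV
    exact hab (Subrepresentation.toSubmodule_injective (Subsingleton.elim _ _))
  · have : IsSimpleOrder (Subrepresentation ρ) := h
    rcases IsSimpleOrder.eq_bot_or_eq_top (⟨U, fun g v hv => hU g v hv⟩ : Subrepresentation ρ) with h1 | h1
    · exact Or.inl (congrArg Subrepresentation.toSubmodule h1)
    · exact Or.inr (congrArg Subrepresentation.toSubmodule h1)

theorem IrrAction.isIrreducible {ρ : Representation (Res M) G V} (h : IrrAction ρ) : ρ.IsIrreducible := by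
  obtain ⟨hV, hU⟩ := h
  have hne : (⊥ : Subrepresentation ρ) ≠ ⊤ := fun e =>
    (bot_ne_top (α := Submodule (Res M) V)) (congrArg Subrepresentation.toSubmodule e)
  exact
    { exists_pair_ne := ⟨⊥, ⊤, hne⟩
      eq_bot_or_eq_top := fun U => (hU U.toSubmodule fun g u hu => U.apply_mem_toSubmodule g hu).imp
        (fun e => Subrepresentation.toSubmodule_injective e)
        (fun e => Subrepresentation.toSubmodule_injective e) }

/-- A nonzero invariant subspace is everything. -/
theorem IrrAction.eq_top {ρ : Representation (Res M) G V} (h : IrrAction ρ) {U : Submodule (Res M) V}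
    (hU : ∀ g, ∀ u ∈ U, ρ g u ∈ U) {u : V} (hu : u ∈ U) (hu0 : u ≠ 0) : U = ⊤ :=
  (h.2 U hU).resolve_left fun h0 => hu0 ((Submodule.mem_bot (Res M)).mp (h0 ▸ hu))

/-- A nonzero invariant operator of an irreducible action is surjective. -/
theorem IrrAction.range_eq_top {ρ : Representation (Res M) G V} (h : IrrAction ρ)
    {E : Module.End (Res M) V} (hE : ∀ g, ρ g * E = E * ρ g) (hE0 : E ≠ 0) :
    LinearMap.range E = ⊤ := by
  refine (h.2 _ fun g u hu => ?_).resolve_left fun h0 => hE0 (LinearMap.range_eq_bot.mp h0)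
  obtain ⟨v, rfl⟩ := hu
  exact ⟨ρ g v, (LinearMap.congr_fun (hE g) v).symm⟩

/-- The action on an invariant subspace. -/
def restrictAct (ρ : Representation (Res M) G V) (W : Submodule (Res M) V)
    (hW : ∀ g, ∀ x ∈ W, ρ g x ∈ W) : Representation (Res M) G W where
  toFun g := (ρ g).restrict (hW g)
  map_one' := LinearMap.ext fun x => Subtype.ext (by
    show ρ 1 (x : V) = x
    rw [map_one]; rfl)
  map_mul' g h := LinearMap.ext fun x => Subtype.ext (by
    show ρ (g * h) (x : V) = ρ g (ρ h x)
    rw [map_mul]; rfl)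

theorem restrictAct_apply (ρ : Representation (Res M) G V) (W : Submodule (Res M) V)
    (hW : ∀ g, ∀ x ∈ W, ρ g x ∈ W) (g : G) (x : W) : (restrictAct ρ W hW g x : V) = ρ g x := rfl

/-- Every simple module has a lift. -/
def HasLifts (p : ℕ) (M : Ideal AlgInt) [M.IsMaximal] (G : Type*) [Group G] : Prop :=
  ∀ (V : Type) [AddCommGroup V] [Module (Res M) V] [FiniteDimensional (Res M) V]
    (ρ : Representation (Res M) G V), IrrAction ρ → ∃ Φ : G → ℂ, IsTraceLift p Φ ρ

/-- A lift of a simple module has the Brauer character as regular part, and is irreducible. -/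
theorem IsTraceLift.pRegularPart_eq_of_irrAction [Fintype G] (hM : IsPModular p M)
    [FiniteDimensional (Res M) V] {ρ : Representation (Res M) G V} (hρ : IrrAction ρ) {Φ : G → ℂ}
    (h : IsTraceLift p Φ ρ) : pRegularPart p Φ = brauerFun p M ρ ∧ IsIrrCharacter G Φ := by
  obtain ⟨σ, hσ⟩ := exists_fin_equiv ρ
  let E := (Module.finBasis (Res M) V).equivFun
  have hirr : IrrAction σ := by
    have := hρ.1
    refine ⟨E.symm.toEquiv.nontrivial, fun U hU => ?_⟩
    have hc : ∀ g, ∀ u ∈ U.comap E.toLinearMap, ρ g u ∈ U.comap E.toLinearMap := fun g u hu => by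
      show E (ρ g u) ∈ U
      rw [hσ]; exact hU g _ hu
    have hinj := Submodule.comap_injective_of_surjective (f := E.toLinearMap) E.surjective
    rcases hρ.2 _ hc with h0 | h0
    · exact Or.inl (hinj (h0.trans (by simp)))
    · exact Or.inr (hinj (h0.trans (by simp)))
  have hl : IsTraceLift p Φ σ := ⟨h.isChar, by rw [h.degree, Module.finrank_fin_fun], fun g hg => by
    rw [h.trace g hg, show σ g = E.conj (ρ g) from LinearMap.ext fun w => by
      rw [LinearEquiv.conj_apply_apply, hσ, LinearEquiv.apply_symm_apply], LinearMap.trace_conj']⟩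
  obtain ⟨h1, h2⟩ := hl.pRegularPart_eq_brauerFun hM hirr.isIrreducible
  exact ⟨h1.trans (brauerFun_equiv ρ E hσ).symm, h2⟩

/-- Inflation. -/
theorem IsTraceLift.of_surjective [Finite G] {H : Type*} [Group H] (f : G →* H)
    {ρ : Representation (Res M) H V} {Φ : H → ℂ} (h : IsTraceLift p Φ ρ)
    {ρ' : Representation (Res M) G V} (hρ : ∀ g, ρ' g = ρ (f g)) : IsTraceLift p (Φ ∘ f) ρ' where
  isChar := isCharacter_comp h.isChar f
  degree := by rw [Function.comp_apply, map_one, h.degree]
  trace g hg := by
    rw [Function.comp_apply, h.trace _ (fun hd => hg (hd.trans (orderOf_map_dvd f g))), hρ]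

omit [AddCommGroup V] [Module (Res M) V] in
/-- The residue of a sum. -/
theorem resI_finset_sum {ι : Type*} (s : Finset ι) (f : ι → ℂ) (hf : ∀ i ∈ s, f i ∈ locRing M) :
    resI M (∑ i ∈ s, f i) = ∑ i ∈ s, resI M (f i) := by
  classical
  let g : ι → locRing M := fun i => if h : i ∈ s then ⟨f i, hf i h⟩ else 0
  have e : ∀ i ∈ s, (g i : ℂ) = f i := fun i hi => by simp [g, hi]
  rw [← Finset.sum_congr rfl e, ← AddSubmonoidClass.coe_finsetSum, resI_coe, map_sum]
  exact Finset.sum_congr rfl fun i hi => by rw [← e i hi, resI_coe]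

omit [AddCommGroup V] [Module (Res M) V] in
theorem char_mem_locRing {Φ : G → ℂ} [Finite G] (h : IsCharacter G Φ) (g : G) : Φ g ∈ locRing M :=
  algInt_le_locRing M (char_isIntegral h g)

end CfsgLib.Modular.FongSwan
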