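import Cfsg.Agent.Lib.Modular.Lifting
import Cfsg.Agent.Lib.Modular.Independence
import Cfsg.Agent.Lib.Char.Ortho
import Cfsg.Agent.Lib.Modular.TraceForm

/-!
# Lifts of modular representations

* `trace_regular_independent`: distinct simple modules have independent traces on `p`-regular elements;
* `IsTraceLift`: a character with the degree and the residual regular traces of a representation;
* `IsTraceLift.pRegularPart_eq_brauerFun`: a lift of an irreducible representation is an irreducible character whose
  `p`-regular part is the Brauer character.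
-/

set_option autoImplicit false

noncomputable section

namespace CfsgLib.Modular.FongSwan

open Cfsg CfsgLib.Blocks CfsgLib.Char CfsgLib.BlockArith

attribute [local instance] CfsgLib.Blocks.resField

variable {M : Ideal AlgInt} [M.IsMaximal] {p : ℕ} {G : Type*} [Group G] [Fintype G]

/-- Distinct simple modules have linearly independent traces on regular elements. -/
theorem trace_regular_independent (hM : IsPModular p M) {ι : Type*} [Fintype ι] {n : ι → ℕ}
    (σ : ∀ i, Representation (Res M) G (Fin (n i) → Res M)) (hirr : ∀ i, (σ i).IsIrreducible)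
    (hinj : Function.Injective fun i => brauerFun p M (σ i)) (d : ι → Res M)
    (hd : ∀ g : G, ¬ p ∣ orderOf g → ∑ i, d i * LinearMap.trace (Res M) _ (σ i g) = 0) : d = 0 := by
  classical
  have : Fact p.Prime := ⟨hM.1⟩
  have := res_isAlgClosed M
  let S : ι → Type := fun i => (σ i).asModule
  let _ : ∀ i, AddCommGroup (S i) := fun i => inferInstanceAs (AddCommGroup (σ i).asModule)
  let _ : ∀ i, Module (Res M) (S i) := fun i => inferInstanceAs (Module (Res M) (σ i).asModule)
  let _ : ∀ i, Module (MonoidAlgebra (Res M) G) (S i) := fun i =>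
    inferInstanceAs (Module (MonoidAlgebra (Res M) G) (σ i).asModule)
  have : ∀ i, IsScalarTower (Res M) (MonoidAlgebra (Res M) G) (S i) := fun i =>
    inferInstanceAs (IsScalarTower (Res M) (MonoidAlgebra (Res M) G) (σ i).asModule)
  have : ∀ i, FiniteDimensional (Res M) (S i) := fun i =>
    inferInstanceAs (Module.Finite (Res M) (σ i).asModule)
  have : ∀ i, IsSimpleModule (MonoidAlgebra (Res M) G) (S i) := fun i =>
    (σ i).irreducible_iff_isSimpleModule_asModule.mp (hirr i)
  refine trace_forms_independent (k := Res M) (A := MonoidAlgebra (Res M) G) S (fun i j hij => ⟨fun E => hij (hinj ?_)⟩) d fun a => ?_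
  · let E' : (Fin (n i) → Res M) ≃ₗ[Res M] (Fin (n j) → Res M) :=
      (σ i).asModuleEquiv.symm ≪≫ₗ E.restrictScalars (Res M) ≪≫ₗ (σ j).asModuleEquiv
    refine brauerFun_equiv _ E' fun g v => ?_
    show (σ j).asModuleEquiv (E ((σ i).asModuleEquiv.symm (σ i g v))) =
      σ j g ((σ j).asModuleEquiv (E ((σ i).asModuleEquiv.symm v)))
    rw [Representation.asModuleEquiv_symm_map_rho, map_smul, Representation.asModuleEquiv_map_smul,
      Representation.asAlgebraHom_of]
  · show ∑ i, d i * LinearMap.trace (Res M) (Fin (n i) → Res M) ((σ i).asAlgebraHom a) = 0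
    simp only [asAlgebraHom_eq_sum, map_sum, map_smul, smul_eq_mul, Finset.mul_sum]
    rw [Finset.sum_comm]
    refine Finset.sum_eq_zero fun g _ => ?_
    simp only [mul_left_comm _ (a.coeff g), ← Finset.mul_sum]
    obtain ⟨z, y, rfl, hzy, hz, hy⟩ := exists_isPPart (p := p) g
    simp only [trace_mul_pElement hM _ hzy hz, hd y hy, mul_zero]

variable {V : Type*} [AddCommGroup V] [Module (Res M) V]

/-- A character with the degree of `ρ` whose residue at regular elements is the trace of `ρ`. -/
structure IsTraceLift (p : ℕ) (Φ : G → ℂ) (ρ : Representation (Res M) G V) : Prop where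
  isChar : IsCharacter G Φ
  degree : Φ 1 = (Module.finrank (Res M) V : ℂ)
  trace : ∀ g : G, ¬ p ∣ orderOf g → resI M (Φ g) = LinearMap.trace (Res M) V (ρ g)

theorem IsTraceLift.pRegularPart_eq_brauerFun (hM : IsPModular p M) {i : ℕ}
    {σ : Representation (Res M) G (Fin i → Res M)} (hσ : σ.IsIrreducible) {Φ : G → ℂ}
    (h : IsTraceLift p Φ σ) : pRegularPart p Φ = brauerFun p M σ ∧ IsIrrCharacter G Φ := by
  classical
  have hφ : brauerFun p M σ ∈ ibrF hM G := mem_ibrF.mpr ⟨i, σ, hσ, rfl⟩
  obtain ⟨m, hm, -⟩ := char_decomp h.isChar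
  let c : (G → ℂ) → ℕ := fun φ => ∑ χ : IrrCharacter G, m χ * dnum hM χ φ
  have hreg : pRegularPart p Φ = ∑ φ ∈ ibrF hM G, (c φ : ℂ) • φ := by
    have e : pRegularPart p Φ = ∑ χ : IrrCharacter G, (m χ : ℂ) • pRegularPart p (χ : G → ℂ) := by
      funext g
      conv_lhs => rw [hm]
      simp only [pRegularPart_apply, Finset.sum_apply, Pi.smul_apply, smul_eq_mul]
      split_ifs <;> simp
    rw [e]
    simp only [regPart_eq hM, Finset.smul_sum, smul_smul, c, Nat.cast_sum, Nat.cast_mul, Finset.sum_smul]
    exact Finset.sum_comm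
  choose j τ hirr hτ using fun x : ibrF hM G => mem_ibrF.mp x.2
  have hres : ∀ g, ¬ p ∣ orderOf g → LinearMap.trace (Res M) _ (σ g) =
      ∑ x : ibrF hM G, (c x : Res M) * LinearMap.trace (Res M) _ (τ x g) := by
    intro g hg
    let b : ibrF hM G → locRing M := fun x => ⟨_, (resI_brauerFun (τ x) hM hg).1⟩
    have he : Φ g = ((∑ x : ibrF hM G, (c x : locRing M) * b x : locRing M) : ℂ) := by
      have h1 := congrFun hreg g
      rw [pRegularPart_apply, if_neg hg] at h1
      rw [h1, Finset.sum_apply, AddSubmonoidClass.coe_finsetSum, ← Finset.sum_coe_sort]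
      refine Finset.sum_congr rfl fun x _ => ?_
      simp [b, hτ x]
    rw [← h.trace g hg, he, resI_coe, map_sum]
    refine Finset.sum_congr rfl fun x _ => ?_
    rw [map_mul, map_natCast, ← (resI_brauerFun (τ x) hM hg).2, ← resI_coe]
  let x₀ : ibrF hM G := ⟨_, hφ⟩
  have hd := trace_regular_independent hM τ hirr (fun x y hxy => Subtype.ext (by simpa only [hτ] using hxy))
    (fun x => (c x : Res M) - if x = x₀ then 1 else 0) fun g hg => by
      simp only [sub_mul, Finset.sum_sub_distrib, ite_mul, one_mul, zero_mul, Finset.sum_ite_eq',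
        Finset.mem_univ, if_true, ← hres g hg]
      rw [sub_eq_zero, ← Representation.asAlgebraHom_single_one σ g,
        ← Representation.asAlgebraHom_single_one (τ x₀) g,
        trace_eq_of_brauerFun_eq hM (hτ x₀).symm]
  have hc1 : 1 ≤ c (brauerFun p M σ) := by
    refine Nat.one_le_iff_ne_zero.mpr fun h0 => ?_
    have h1 := congrFun hd x₀
    simp [x₀, h0] at h1
  have hdeg : ∑ φ ∈ ibrF hM G, (c φ : ℂ) * φ 1 = (i : ℂ) := by
    have h1 := congrFun hreg 1
    rw [pRegularPart_apply, if_neg (by rw [orderOf_one]; exact hM.1.not_dvd_one), h.degree,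
      Module.finrank_fin_fun] at h1
    rw [h1, Finset.sum_apply]
    rfl
  have hone : brauerFun p M σ 1 = (i : ℂ) := by rw [brauerFun_one σ hM, Module.finrank_fin_fun]
  choose e he0 he using fun x : ibrF hM G => ibr_one_pos hM x.2
  have hnat : ∑ x : ibrF hM G, c x * e x = i := by
    rw [← Nat.cast_inj (R := ℂ)]
    push_cast
    simp only [← he]
    rw [Finset.sum_coe_sort (ibrF hM G) (fun φ => (c φ : ℂ) * φ 1)]
    exact hdeg
  have hex0 : e x₀ = i := by
    rw [← Nat.cast_inj (R := ℂ), ← he]
    exact hone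
  have hsplit := Finset.add_sum_erase Finset.univ (fun x : ibrF hM G => c x * e x) (Finset.mem_univ x₀)
  have hle : e x₀ ≤ c x₀ * e x₀ := Nat.le_mul_of_pos_left _ hc1
  have hrest : ∀ x : ibrF hM G, x ≠ x₀ → c x = 0 := fun x hx => by
    have := Finset.single_le_sum (f := fun x : ibrF hM G => c x * e x) (fun _ _ => Nat.zero_le _)
      (Finset.mem_erase.mpr ⟨hx, Finset.mem_univ x⟩)
    rcases Nat.mul_eq_zero.mp (show c x * e x = 0 by omega) with h | h
    · exact h
    · exact absurd h (he0 x).ne'
  have hcx : c (brauerFun p M σ) = 1 := by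
    have h1 : c x₀ * e x₀ = 1 * e x₀ := by omega
    exact Nat.eq_of_mul_eq_mul_right (he0 x₀) h1
  refine ⟨?_, ?_⟩
  · rw [hreg, Finset.sum_eq_single (brauerFun p M σ)]
    · rw [hcx, Nat.cast_one, one_smul]
    · intro φ hφ' hne
      rw [show c φ = 0 from hrest ⟨φ, hφ'⟩ fun h => hne (congrArg Subtype.val h), Nat.cast_zero, zero_smul]
    · exact fun h => absurd hφ h
  · have hpos : ∀ χ : IrrCharacter G, ∃ φ ∈ ibrF hM G, dnum hM χ φ ≠ 0 := fun χ => by
      by_contra hall
      push Not at hall
      have h1 := congrFun (regPart_eq hM χ) 1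
      rw [pRegularPart_apply, if_neg (by rw [orderOf_one]; exact hM.1.not_dvd_one), Finset.sum_apply,
        Finset.sum_eq_zero fun φ hφ => by simp [hall φ hφ]] at h1
      exact irr_one_ne_zero χ.2 h1
    have hm1 : ∀ χ : IrrCharacter G, m χ ≤ m χ * dnum hM χ (brauerFun p M σ) := fun χ => by
      rcases Nat.eq_zero_or_pos (m χ) with h0 | h0
      · simp [h0]
      obtain ⟨φ, hφ', hd'⟩ := hpos χ
      by_cases hφeq : φ = brauerFun p M σ
      · exact Nat.le_mul_of_pos_right _ (Nat.pos_of_ne_zero (hφeq ▸ hd'))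
      · have hcφ : c φ = 0 := hrest ⟨φ, hφ'⟩ fun h => hφeq (congrArg Subtype.val h)
        have := Finset.single_le_sum (f := fun χ : IrrCharacter G => m χ * dnum hM χ φ)
          (fun _ _ => Nat.zero_le _) (Finset.mem_univ χ)
        have hcφ' : ∑ χ, m χ * dnum hM χ φ = 0 := hcφ
        have : m χ * dnum hM χ φ = 0 := by omega
        rcases Nat.mul_eq_zero.mp this with h | h <;> omega
    have hsum : ∑ χ, m χ ≤ 1 := hcx ▸ Finset.sum_le_sum fun χ _ => hm1 χ
    have hne : ∃ χ, m χ ≠ 0 := by
      by_contra hall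
      push Not at hall
      simp [c, hall] at hcx
    obtain ⟨χ, hχ⟩ := hne
    have hχ1 := Finset.single_le_sum (f := m) (fun _ _ => Nat.zero_le _) (Finset.mem_univ χ)
    have hothers : ∀ ψ, ψ ≠ χ → m ψ = 0 := fun ψ hψ => by
      have := Finset.add_sum_erase Finset.univ m (Finset.mem_univ χ)
      have := Finset.single_le_sum (f := m) (fun _ _ => Nat.zero_le _)
        (Finset.mem_erase.mpr ⟨hψ, Finset.mem_univ ψ⟩)
      omega
    rw [hm, Finset.sum_eq_single χ (fun ψ _ hψ => by rw [hothers ψ hψ, Nat.cast_zero, zero_smul])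
      (by simp), show m χ = 1 by omega, Nat.cast_one, one_smul]
    exact χ.2

end CfsgLib.Modular.FongSwan
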